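import Mathlib
import Cfsg.Agent.Lib.Helper11.TFS3
import Cfsg.Agent.Lib.Helper11.FFTF

/-!
In a `2`-solvable group `X` with `O_{2'}(X) = 1`, the elements of odd order of the Thompson
subgroup `J(X)` (generated by the elementary abelian `2`-subgroups of largest order) commute
modulo the centralizer of `ZW = ⟨Ω₁(Z(S)) | S Sylow⟩`.
-/

set_option autoImplicit false

namespace Cfsg.Agent.Lib.Helper55.JFF

open scoped commutatorElement
open Cfsg.Agent.Lib.Helper10 Cfsg.Agent.Lib.Helper11 Cfsg.Agent.Lib.Helper11.FFT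
  Cfsg.Agent.Lib.Helper11.FF Cfsg.Agent.Lib.Helper11.TFS

theorem perm3_odd_comm : ∀ x y : Equiv.Perm (Fin 3), x ^ 3 = 1 → y ^ 3 = 1 → x * y = y * x := by
  decide

theorem perm3_pow_three_of_odd (x : Equiv.Perm (Fin 3)) (h : Odd (orderOf x)) : x ^ 3 = 1 := by
  have h6 : orderOf x ∣ 6 := by
    have h1 := orderOf_dvd_card (x := x)
    have h2 : Fintype.card (Equiv.Perm (Fin 3)) = 6 := by decide
    rwa [h2] at h1
  have h3 : orderOf x ∣ 3 := by
    have hcop : (orderOf x).Coprime 2 := Nat.coprime_two_right.mpr h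
    have : orderOf x ∣ 2 * 3 := h6
    exact hcop.dvd_of_dvd_mul_left this
  exact orderOf_dvd_iff_pow_eq_one.mp h3

variable {X : Type*} [Group X] [Finite X]

/-- odd-order elements of `J(X)` commute modulo `C_X(ZW)`. -/
theorem odd_comm (hsol : Cfsg.IsPSolvable 2 X) (hO : Cfsg.pPrimeCore 2 X = ⊥)
    {g h : X} (hg : g ∈ Cfsg.thompsonSubgroup 2 X) (hh : h ∈ Cfsg.thompsonSubgroup 2 X)
    (hgo : Odd (orderOf g)) (hho : Odd (orderOf h)) :
    psi (ZW 2 X) g * psi (ZW 2 X) h = psi (ZW 2 X) h * psi (ZW 2 X) g := by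
  have : Fact (Nat.Prime 2) := ⟨Nat.prime_two⟩
  have hWe := ZW_elem hsol hO
  have hOp := pCore_range_ZW (p := 2) (G := X)
  have hJc : (Cfsg.thompsonSubgroup 2 X).Characteristic := (Cfsg.Agent.S0602.result (p := 2)).1
  have hYn : (Cfsg.thompsonSubgroup 2 X).Normal := Subgroup.normal_of_characteristic _
  obtain ⟨Y, hYdef⟩ : ∃ Y : Subgroup X, Y = Cfsg.thompsonSubgroup 2 X := ⟨_, rfl⟩
  have hYn' : Y.Normal := by rw [hYdef]; exact hYn
  rw [← hYdef] at hg hh
  obtain ⟨hs, hCK⟩ := setup_map_normal (ZW 2 X) hWe hsol hOp Y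
  have hS3 : Y.map (psi (ZW 2 X)) = ⨆ A : {A : Subgroup (Hol (ZW 2 X)) //
      A ≤ Y.map (psi (ZW 2 X)) ∧ Cfsg.IsBestOffenderOn 2 (VV (ZW 2 X)) A},
        (A : Subgroup (Hol (ZW 2 X))) := by
    apply le_antisymm
    · rw [Subgroup.map_le_iff_le_comap]
      have hle : Cfsg.thompsonSubgroup 2 X ≤ (⨆ A : {A : Subgroup (Hol (ZW 2 X)) //
          A ≤ Y.map (psi (ZW 2 X)) ∧ Cfsg.IsBestOffenderOn 2 (VV (ZW 2 X)) A},
            (A : Subgroup (Hol (ZW 2 X)))).comap (psi (ZW 2 X)) := by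
        unfold Cfsg.thompsonSubgroup
        apply sSup_le
        intro A hA
        rw [← Subgroup.map_le_iff_le_comap]
        have hAY : A ≤ Y := by rw [hYdef]; exact le_thompsonSubgroup hA
        exact le_iSup (fun A : {A : Subgroup (Hol (ZW 2 X)) //
            A ≤ Y.map (psi (ZW 2 X)) ∧ Cfsg.IsBestOffenderOn 2 (VV (ZW 2 X)) A} =>
              (A : Subgroup (Hol (ZW 2 X))))
          ⟨A.map (psi (ZW 2 X)), Subgroup.map_mono hAY,
            bestOffender_map (ZW 2 X) (isBestOffenderOn_of_mem_max (ZW 2 X) A hWe hA)⟩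
      exact hYdef.le.trans hle
    · exact iSup_le (fun A => A.2.1)
  by_cases hH1 : Y.map (psi (ZW 2 X)) = ⊥
  · have h1 : psi (ZW 2 X) g = 1 := by
      have : psi (ZW 2 X) g ∈ Y.map (psi (ZW 2 X)) := Subgroup.mem_map_of_mem _ hg
      rw [hH1] at this
      exact Subgroup.mem_bot.mp this
    rw [h1, one_mul, mul_one]
  · obtain ⟨-, hstr, hind, hsup, -, -⟩ := structure_thm hs hCK hS3 hH1
      (ι := {E : Subgroup (Hol (ZW 2 X)) // ∃ a, IsTransv 2 (VV (ZW 2 X)) (Y.map (psi (ZW 2 X))) a ∧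
        E = EE (FF.coreOf 2 (Y.map (psi (ZW 2 X)))) a})
      (fun E => E.1) Subtype.val_injective (fun i => i.2)
      (fun a ha => ⟨⟨_, a, ha, rfl⟩, rfl⟩)
    have hSL : Nonempty (Matrix.SpecialLinearGroup (Fin 2) (ZMod 2) ≃* Equiv.Perm (Fin 3)) :=
      Cfsg.Agent.S0250.result (F := ZMod 2) (by rw [ZMod.card])
    obtain ⟨e0⟩ := hSL
    obtain ⟨e⟩ := exists_pi_equiv (fun E : {E : Subgroup (Hol (ZW 2 X)) //
        ∃ a, IsTransv 2 (VV (ZW 2 X)) (Y.map (psi (ZW 2 X))) a ∧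
          E = EE (FF.coreOf 2 (Y.map (psi (ZW 2 X)))) a} => E.1) (Y.map (psi (ZW 2 X)))
      (fun i => (hstr i).1) hind hsup (M := Equiv.Perm (Fin 3))
      (fun i => by
        obtain ⟨e1⟩ := (hstr i).2.1
        exact ⟨e1.trans e0⟩)
    have hg' : psi (ZW 2 X) g ∈ Y.map (psi (ZW 2 X)) := Subgroup.mem_map_of_mem _ hg
    have hh' : psi (ZW 2 X) h ∈ Y.map (psi (ZW 2 X)) := Subgroup.mem_map_of_mem _ hh
    have key : ∀ (u : X) (hu : u ∈ Y), Odd (orderOf u) → ∀ i,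
        (e ⟨psi (ZW 2 X) u, Subgroup.mem_map_of_mem _ hu⟩ i) ^ 3 = 1 := by
      intro u hu huo i
      apply perm3_pow_three_of_odd
      have h1 : orderOf (e ⟨psi (ZW 2 X) u, Subgroup.mem_map_of_mem _ hu⟩ i) ∣ orderOf u := by
        apply orderOf_dvd_of_pow_eq_one
        have h2 : (⟨psi (ZW 2 X) u, Subgroup.mem_map_of_mem _ hu⟩ :
            ↥(Y.map (psi (ZW 2 X)))) ^ orderOf u = 1 := by
          apply Subtype.ext
          rw [Subgroup.coe_pow, Subgroup.coe_one]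
          show psi (ZW 2 X) u ^ orderOf u = 1
          rw [← map_pow, pow_orderOf_eq_one, map_one]
        have h3 := congrArg (fun z => e z i) h2
        simp only [map_pow, map_one, Pi.pow_apply, Pi.one_apply] at h3
        exact h3
      exact Odd.of_dvd_nat huo h1
    have hcomm : e ⟨psi (ZW 2 X) g, hg'⟩ * e ⟨psi (ZW 2 X) h, hh'⟩ =
        e ⟨psi (ZW 2 X) h, hh'⟩ * e ⟨psi (ZW 2 X) g, hg'⟩ := by
      funext i
      simp only [Pi.mul_apply]
      exact perm3_odd_comm _ _ (key g hg hgo i) (key h hh hho i)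
    rw [← map_mul, ← map_mul] at hcomm
    have := e.injective hcomm
    exact congrArg Subtype.val this

end Cfsg.Agent.Lib.Helper55.JFF
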