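import Mathlib
import Cfsg.Prelude.Def_JComponents
import Cfsg.Agent.Lib.Helper55.JFFOdd
import Cfsg.Agent.Lib.Helper11.ThompsonSylow
import Cfsg.Agent.Lib.Helper79.SolvPSolv
import Cfsg.Agent.S2941

/-!
`J(T)`-components inside a subgroup `L` of characteristic `2` in which `T` is a Sylow
`2`-subgroup (Kurzweil–Stellmacher, Chapter 12): basic lemmas and subnormality.
-/

set_option autoImplicit false

namespace Cfsg.Agent.Lib.Helper55.JComp

open scoped commutatorElement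
open Cfsg.Agent.Lib.Helper11 Cfsg.Agent.Lib.Helper11.FFT

universe u

variable {G : Type u} [Group G] [Finite G]

/-- a Sylow `2`-subgroup of `↥L` from `IsSylowTwoIn`. -/
theorem exists_sylow {T L : Subgroup G} (h : Cfsg.IsSylowTwoIn T L) :
    ∃ P : Sylow 2 ↥L, (P : Subgroup ↥L) = T.subgroupOf L := by
  obtain ⟨hTL, hT2, hodd⟩ := h
  have : Fact (Nat.Prime 2) := ⟨Nat.prime_two⟩
  have hT' : IsPGroup 2 ↥(T.subgroupOf L) := hT2.comap_subtype
  obtain ⟨P, hP⟩ := hT'.exists_le_sylow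
  refine ⟨P, ?_⟩
  have h1 : (T.subgroupOf L).relIndex P * (P : Subgroup ↥L).index = (T.subgroupOf L).index :=
    Subgroup.relIndex_mul_index hP
  have h3 : Odd ((T.subgroupOf L).relIndex P) := by
    have h2 : Odd ((T.subgroupOf L).relIndex P * (P : Subgroup ↥L).index) := by
      rw [h1]; exact hodd
    exact (Nat.odd_mul.mp h2).1
  have h4 : (T.subgroupOf L).relIndex P ∣ Nat.card (P : Subgroup ↥L) :=
    Subgroup.relIndex_dvd_card _ _
  obtain ⟨n, hn⟩ := IsPGroup.iff_card.mp P.isPGroup'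
  rw [hn] at h4
  have h5 : (T.subgroupOf L).relIndex P = 1 := by
    obtain ⟨m, -, hm⟩ := (Nat.dvd_prime_pow Nat.prime_two).mp h4
    rw [hm] at h3 ⊢
    rcases m with _ | m
    · rfl
    · exfalso
      rw [pow_succ] at h3
      exact (Nat.not_odd_iff_even.mpr (even_two.mul_left _)) h3
  exact (le_antisymm hP (Subgroup.relIndex_eq_one.mp h5)).symm

/-- a `2`-subgroup of `L` containing a Sylow `2`-subgroup `T` of `L` equals `T`. -/
theorem eq_of_isSylowTwoIn {T L R : Subgroup G} (h : Cfsg.IsSylowTwoIn T L) (hR : IsPGroup 2 ↥R)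
    (hTR : T ≤ R) (hRL : R ≤ L) : R = T := by
  obtain ⟨P, hP⟩ := exists_sylow h
  have hR' : IsPGroup 2 ↥(R.subgroupOf L) := hR.comap_subtype
  have hle : (P : Subgroup ↥L) ≤ R.subgroupOf L := by
    rw [hP]
    intro x hx
    exact Subgroup.mem_subgroupOf.mpr (hTR (Subgroup.mem_subgroupOf.mp hx))
  have h1 := P.is_maximal' hR' hle
  rw [hP] at h1
  have h2 := congrArg (Subgroup.map L.subtype) h1
  rwa [Subgroup.map_subgroupOf_eq_of_le hRL, Subgroup.map_subgroupOf_eq_of_le h.1] at h2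

theorem pCoreOf_isPGroup (L : Subgroup G) : IsPGroup 2 ↥(Cfsg.pCoreOf 2 L) := by
  unfold Cfsg.pCoreOf
  exact (Cfsg.Agent.Lib.Helper63.pCore_isPGroup' 2 ↥L).map _

theorem le_normalizer_map_subtype {L : Subgroup G} (N : Subgroup ↥L) (hNn : N.Normal) :
    L ≤ Subgroup.normalizer ((N.map L.subtype : Subgroup G) : Set G) := by
  intro g hg
  rw [Subgroup.mem_normalizer_iff]
  intro x
  constructor
  · rintro ⟨n, hn, rfl⟩
    exact ⟨⟨g, hg⟩ * n * ⟨g, hg⟩⁻¹, hNn.conj_mem n hn _, by simp⟩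
  · rintro ⟨n, hn, hx⟩
    refine ⟨⟨g, hg⟩⁻¹ * n * ⟨g, hg⟩, ?_, ?_⟩
    · have := hNn.conj_mem n hn ⟨g, hg⟩⁻¹
      simpa using this
    · simp only [Subgroup.subtype_apply, Subgroup.coe_mul, Subgroup.coe_inv] at hx ⊢
      rw [hx]; group

theorem pCore_normal (L : Subgroup G) : (Cfsg.pCore 2 ↥L).Normal := by
  have := Cfsg.Agent.Lib.Helper63.pCore_characteristic' 2 ↥L
  exact Subgroup.normal_of_characteristic _

theorem le_normalizer_pCoreOf (L : Subgroup G) :
    L ≤ Subgroup.normalizer ((Cfsg.pCoreOf 2 L : Subgroup G) : Set G) :=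
  le_normalizer_map_subtype _ (pCore_normal L)

/-- members of `jOvergroups T` are solvable when `2`-locals are. -/
theorem solvable_of_mem {T L : Subgroup G}
    (hN : ∀ N : Subgroup G, Cfsg.IsTwoLocal N → Group.IsSolvable ↥N)
    (hT1 : T ≠ ⊥) (hLT : L ∈ Cfsg.jOvergroups T) : Group.IsSolvable ↥L := by
  obtain ⟨⟨hTL, hT2, hodd⟩, hJnot, hCQ⟩ := hLT
  have hne : Cfsg.pCoreOf 2 L ≠ ⊥ := by
    intro h
    rw [h] at hCQ
    apply hT1
    rw [eq_bot_iff]
    intro t _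
    have : t ∈ Subgroup.centralizer (((⊥ : Subgroup G) : Subgroup G) : Set G) := by
      rw [Subgroup.mem_centralizer_iff]
      intro x hx
      rw [SetLike.mem_coe, Subgroup.mem_bot] at hx
      rw [hx, one_mul, mul_one]
    exact hCQ this
  have hsol := hN _ ⟨Cfsg.pCoreOf 2 L, pCoreOf_isPGroup L, hne, rfl⟩
  exact Group.isSolvable_of_isSolvable_injective (Subgroup.inclusion_injective (le_normalizer_pCoreOf L))

/-- `O_{2'}(L) = 1` when `C_G(O_2(L)) ≤ O_2(L)`. -/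
theorem pPrimeCore_eq_bot {L : Subgroup G}
    (hCQ : Subgroup.centralizer (Cfsg.pCoreOf 2 L : Set G) ≤ Cfsg.pCoreOf 2 L) :
    Cfsg.pPrimeCore 2 ↥L = ⊥ := by
  unfold Cfsg.pPrimeCore
  rw [sSup_eq_bot]
  rintro N ⟨hNn, hNc⟩
  rw [eq_bot_iff]
  intro x hx
  rw [Subgroup.mem_bot]
  have hPn := pCore_normal L
  have hdis : Disjoint N (Cfsg.pCore 2 ↥L) := by
    apply Subgroup.disjoint_of_coprime_natCard
    obtain ⟨n, hn⟩ := IsPGroup.iff_card.mp (Cfsg.Agent.Lib.Helper63.pCore_isPGroup' 2 ↥L)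
    rw [hn]
    exact Nat.Coprime.pow_right n hNc
  have hxc : (x : G) ∈ Subgroup.centralizer (Cfsg.pCoreOf 2 L : Set G) := by
    rw [Subgroup.mem_centralizer_iff]
    rintro _ ⟨y, hy, rfl⟩
    have h1 := Subgroup.commute_of_normal_of_disjoint N _ hNn hPn hdis x y hx hy
    have h2 := congrArg Subtype.val h1.eq
    simpa using h2.symm
  obtain ⟨y, hy, hyx⟩ := hCQ hxc
  have hxy : y = x := Subtype.ext hyx
  rw [hxy] at hy
  have h3 : x ∈ N ⊓ Cfsg.pCore 2 ↥L := ⟨hx, hy⟩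
  rw [hdis.eq_bot] at h3
  exact Subgroup.mem_bot.mp h3

/-- `O_2(L) ≤ T` for a Sylow `2`-subgroup `T` of `L`. -/
theorem pCoreOf_le {T L : Subgroup G} (h : Cfsg.IsSylowTwoIn T L) : Cfsg.pCoreOf 2 L ≤ T := by
  obtain ⟨P, hP⟩ := exists_sylow h
  unfold Cfsg.pCoreOf
  have h1 := Subgroup.map_mono (f := L.subtype) (Cfsg.Agent.Lib.Helper63.pCore_le_sylow' 2 P)
  rw [hP, Subgroup.map_subgroupOf_eq_of_le h.1] at h1
  exact h1

/-- The ZN-property descends to `L`: the centralizer in `L` of `⟨Ω₁(Z(T))^L⟩` normalizes `T`. -/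
theorem centralizer_ZW_le_normalizer {T L : Subgroup G}
    (hZ : ∀ S : Sylow 2 G, Subgroup.centralizer (Cfsg.omegaCenterOf (S : Subgroup G) : Set G) ≤
      Subgroup.normalizer ((S : Subgroup G) : Set G))
    (hLT : L ∈ Cfsg.jOvergroups T) (c : ↥L)
    (hc : c ∈ Subgroup.centralizer ((ZW 2 ↥L : Subgroup ↥L) : Set ↥L)) :
    (c : G) ∈ Subgroup.normalizer (T : Set G) := by
  obtain ⟨hsyl, hJnot, hCQ⟩ := hLT
  obtain ⟨P, hP⟩ := exists_sylow hsyl
  have hQT := pCoreOf_le hsyl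
  obtain ⟨hTL, hT2, hodd⟩ := hsyl
  have : Fact (Nat.Prime 2) := ⟨Nat.prime_two⟩
  obtain ⟨S, hS⟩ := hT2.exists_le_sylow
  have hcS : (c : G) ∈ Subgroup.centralizer (Cfsg.omegaCenterOf (S : Subgroup G) : Set G) := by
    have h1 : Cfsg.omegaCenterOf (S : Subgroup G) ≤ Subgroup.centralizer ({(c : G)} : Set G) := by
      unfold Cfsg.omegaCenterOf Cfsg.omegaOne
      rw [Subgroup.closure_le]
      rintro x ⟨⟨hxS, hxC⟩, hx2⟩
      have hxQ : x ∈ Subgroup.centralizer (Cfsg.pCoreOf 2 L : Set G) :=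
        Subgroup.centralizer_le (by exact_mod_cast hQT.trans hS) hxC
      have hxT : x ∈ T := hQT (hCQ hxQ)
      have hxL : x ∈ L := hTL hxT
      have hmem : (⟨x, hxL⟩ : ↥L) ∈ ZW 2 ↥L := by
        apply (le_iSup (fun S : Sylow 2 ↥L => Cfsg.omegaOne 2 ((S : Subgroup ↥L) ⊓
          Subgroup.centralizer ((S : Subgroup ↥L) : Set ↥L))) P)
        apply Subgroup.subset_closure
        refine ⟨Subgroup.mem_inf.mpr ⟨?_, ?_⟩, ?_⟩
        · rw [hP]; exact Subgroup.mem_subgroupOf.mpr hxT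
        · rw [Subgroup.mem_centralizer_iff]
          intro y hy
          rw [SetLike.mem_coe, hP, Subgroup.mem_subgroupOf] at hy
          apply Subtype.ext
          exact Subgroup.mem_centralizer_iff.mp hxC y (hS hy)
        · apply Subtype.ext
          simpa using hx2
      have h2 := Subgroup.mem_centralizer_iff.mp hc _ hmem
      have h3 : x * (c : G) = (c : G) * x := congrArg Subtype.val h2
      rw [SetLike.mem_coe, Subgroup.mem_centralizer_iff]
      intro z hz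
      rw [Set.mem_singleton_iff] at hz
      subst hz
      exact h3.symm
    rw [Subgroup.mem_centralizer_iff]
    intro y hy
    exact (Subgroup.mem_centralizer_iff.mp (h1 hy) (c : G) rfl).symm
  have hcN := hZ S hcS
  have hR : (S : Subgroup G) ⊓ L = T :=
    eq_of_isSylowTwoIn ⟨hTL, hT2, hodd⟩ (S.isPGroup'.to_le inf_le_left) (le_inf hS hTL) inf_le_right
  rw [Subgroup.mem_normalizer_iff]
  intro t
  rw [← hR]
  constructor
  · rintro ⟨h1, h2⟩
    exact ⟨(Subgroup.mem_normalizer_iff.mp hcN t).mp h1,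
      L.mul_mem (L.mul_mem c.2 h2) (L.inv_mem c.2)⟩
  · rintro ⟨h1, h2⟩
    refine ⟨(Subgroup.mem_normalizer_iff.mp hcN t).mpr h1, ?_⟩
    have h3 : t = (c : G)⁻¹ * ((c : G) * t * (c : G)⁻¹) * (c : G) := by group
    rw [h3]
    exact L.mul_mem (L.mul_mem (L.inv_mem c.2) h2) c.2

/-- `J(T) ≤ J(L)` for a Sylow `2`-subgroup `T` of `L`. -/
theorem thompsonSubgroupOf_le_map {T L : Subgroup G} (h : Cfsg.IsSylowTwoIn T L) :
    Cfsg.thompsonSubgroupOf 2 T ≤ (Cfsg.thompsonSubgroup 2 ↥L).map L.subtype := by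
  have : Fact (Nat.Prime 2) := ⟨Nat.prime_two⟩
  obtain ⟨P, hP⟩ := exists_sylow h
  have h1 := thompsonSubgroupOf_map 2 L.subtype L.subtype_injective (P : Subgroup ↥L)
  rw [hP, Subgroup.map_subgroupOf_eq_of_le h.1] at h1
  rw [h1]
  apply Subgroup.map_mono
  rw [← hP]
  exact thompsonSubgroupOf_sylow_le P

end Cfsg.Agent.Lib.Helper55.JComp
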