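import Mathlib
import Cfsg.Agent.Lib.Helper55.JComp

/-!
A `J(T)`-component `K` contained in a member `L` of `jOvergroups T` is subnormal in `L`
(Kurzweil–Stellmacher, Chapter 12).
-/

set_option autoImplicit false

namespace Cfsg.Agent.Lib.Helper55.JComp

open scoped commutatorElement
open Cfsg.Agent.Lib.Helper11 Cfsg.Agent.Lib.Helper11.FFT

universe u

variable {G : Type u} [Group G] [Finite G]

/-- the data used for subnormality: the kernel `C = C_L(⟨Ω₁(Z(T))^L⟩)` normalizes `K`, and `K`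
lies in the subgroup `O` generated by the odd-order elements of `J(L)`, whose image modulo `C`
is abelian. -/
theorem jComponent_data (hL : Cfsg.IsCharacteristicTwoType G)
    (hN : ∀ N : Subgroup G, Cfsg.IsTwoLocal N → Group.IsSolvable ↥N)
    (hZ : ∀ S : Sylow 2 G, Subgroup.centralizer (Cfsg.omegaCenterOf (S : Subgroup G) : Set G) ≤
      Subgroup.normalizer ((S : Subgroup G) : Set G))
    (T : Subgroup G) (hT : IsPGroup 2 ↥T) (hT1 : T ≠ ⊥) (L : Subgroup G)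
    (hLT : L ∈ Cfsg.jOvergroups T) :
    ∃ O : Subgroup ↥L, O.Normal ∧
      (∀ x ∈ O, ∀ y ∈ O, psi (ZW 2 ↥L) x * psi (ZW 2 ↥L) y = psi (ZW 2 ↥L) y * psi (ZW 2 ↥L) x) ∧
      ∀ K : Subgroup G, Cfsg.IsJComponent T K → K ≤ L →
        K.subgroupOf L ≤ O ∧
        ∀ c : ↥L, c ∈ Subgroup.centralizer ((ZW 2 ↥L : Subgroup ↥L) : Set ↥L) →
          (c : G) ∈ Subgroup.normalizer (K : Set G) := by
  have : Fact (Nat.Prime 2) := ⟨Nat.prime_two⟩
  have hsolL := solvable_of_mem hN hT1 hLT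
  have hsol : Cfsg.IsPSolvable 2 ↥L := Cfsg.Agent.Lib.Helper79.isPSolvable_of_isSolvable 2 hsolL
  have hO := pPrimeCore_eq_bot hLT.2.2
  have hTL := hLT.1.1
  have hJY := thompsonSubgroupOf_le_map hLT.1
  have hJc : (Cfsg.thompsonSubgroup 2 ↥L).Characteristic := (Cfsg.Agent.S0602.result (p := 2)).1
  have hYn : (Cfsg.thompsonSubgroup 2 ↥L).Normal := Subgroup.normal_of_characteristic _
  obtain ⟨O, hOdef⟩ : ∃ O : Subgroup ↥L, O = Subgroup.closure
    {g : ↥L | g ∈ Cfsg.thompsonSubgroup 2 ↥L ∧ Odd (orderOf g)} := ⟨_, rfl⟩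
  have hOn : O.Normal := by
    constructor
    intro n hn g
    have hle : O ≤ O.comap (MulAut.conj g).toMonoidHom := by
      rw [hOdef, Subgroup.closure_le]
      rintro x ⟨hx, hxo⟩
      show g * x * g⁻¹ ∈ Subgroup.closure
        {g : ↥L | g ∈ Cfsg.thompsonSubgroup 2 ↥L ∧ Odd (orderOf g)}
      apply Subgroup.subset_closure
      refine ⟨hYn.conj_mem x hx g, ?_⟩
      have h1 : orderOf (g * x * g⁻¹) = orderOf x := by
        have := orderOf_injective (MulAut.conj g).toMonoidHom (MulAut.conj g).injective x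
        simpa using this
      rw [h1]; exact hxo
    exact hle hn
  have step1 : ∀ x : ↥L, x ∈ Cfsg.thompsonSubgroup 2 ↥L → Odd (orderOf x) →
      O ≤ (Subgroup.centralizer {psi (ZW 2 ↥L) x}).comap (psi (ZW 2 ↥L)) := by
    intro x hx hxo
    rw [hOdef, Subgroup.closure_le]
    rintro y ⟨hy, hyo⟩
    show psi (ZW 2 ↥L) y ∈ Subgroup.centralizer {psi (ZW 2 ↥L) x}
    rw [Subgroup.mem_centralizer_iff]
    intro z hz
    rw [Set.mem_singleton_iff] at hz
    subst hz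
    exact Cfsg.Agent.Lib.Helper55.JFF.odd_comm hsol hO hx hy hxo hyo
  have step2 : ∀ y ∈ O, O ≤ (Subgroup.centralizer {psi (ZW 2 ↥L) y}).comap (psi (ZW 2 ↥L)) := by
    intro y hy
    rw [hOdef, Subgroup.closure_le]
    rintro x ⟨hx, hxo⟩
    show psi (ZW 2 ↥L) x ∈ Subgroup.centralizer {psi (ZW 2 ↥L) y}
    rw [Subgroup.mem_centralizer_iff]
    intro z hz
    rw [Set.mem_singleton_iff] at hz
    subst hz
    have h1 : psi (ZW 2 ↥L) y ∈ Subgroup.centralizer {psi (ZW 2 ↥L) x} := step1 x hx hxo hy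
    exact (Subgroup.mem_centralizer_iff.mp h1 _ rfl).symm
  refine ⟨O, hOn, ?_, ?_⟩
  · intro x hx y hy
    have h1 : psi (ZW 2 ↥L) x ∈ Subgroup.centralizer {psi (ZW 2 ↥L) y} := step2 y hy hx
    exact (Subgroup.mem_centralizer_iff.mp h1 _ rfl).symm
  · intro K hK hKL
    have hKJL : K ⊔ Cfsg.thompsonSubgroupOf 2 T ≤ L :=
      sup_le hKL ((thompsonSubgroupOf_le 2 T).trans hTL)
    have hCn : (Subgroup.centralizer ((ZW 2 ↥L : Subgroup ↥L) : Set ↥L)).Normal :=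
      Subgroup.normal_centralizer
    constructor
    · -- K ≤ Y_G
      have hKY : K ≤ (Cfsg.thompsonSubgroup 2 ↥L).map L.subtype := by
        have h1 : ⁅K, Cfsg.thompsonSubgroupOf 2 T⁆ ≤ (Cfsg.thompsonSubgroup 2 ↥L).map L.subtype := by
          rw [Subgroup.commutator_le]
          intro k hk j hj
          obtain ⟨j', hj', rfl⟩ := hJY hj
          refine ⟨⟨k, hKL hk⟩ * j' * ⟨k, hKL hk⟩⁻¹ * j'⁻¹, ?_, ?_⟩
          · exact Subgroup.mul_mem _ (hYn.conj_mem j' hj' _) (Subgroup.inv_mem _ hj')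
          · simp [commutatorElement_def]
        rw [hK.2.1] at h1
        exact h1
      have hle : Subgroup.closure {g : G | g ∈ K ∧ Odd (orderOf g)} ≤ O.map L.subtype := by
        rw [Subgroup.closure_le]
        rintro g ⟨hgK, hgo⟩
        obtain ⟨y, hy, hyg⟩ := hKY hgK
        refine ⟨y, ?_, hyg⟩
        rw [hOdef]
        apply Subgroup.subset_closure
        refine ⟨hy, ?_⟩
        have h1 : orderOf y = orderOf g := by
          rw [← hyg]
          exact (Subgroup.orderOf_coe y).symm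
        rw [h1]; exact hgo
      rw [hK.1] at hle
      intro x hx
      obtain ⟨y, hy, hyx⟩ := hle (Subgroup.mem_subgroupOf.mp hx)
      have hxy : y = x := Subtype.ext hyx
      rw [← hxy]; exact hy
    · intro c hc
      have hCT : (Subgroup.centralizer ((ZW 2 ↥L : Subgroup ↥L) : Set ↥L)).map L.subtype ≤
          Subgroup.normalizer (T : Set G) := by
        rintro _ ⟨c, hc, rfl⟩
        exact centralizer_ZW_le_normalizer hZ hLT c hc
      have hCJ := hCT.trans (normalizer_le_normalizer_thompsonSubgroupOf 2 T)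
      have hKJC := hKJL.trans (le_normalizer_map_subtype _ hCn)
      exact Cfsg.Agent.S2941.result hL hN hZ T hT hT1 K hK _ hKJC hCJ ⟨c, hc, rfl⟩

/-- **Subnormality of `J(T)`-components.** -/
theorem jComponent_subnormal (hL : Cfsg.IsCharacteristicTwoType G)
    (hN : ∀ N : Subgroup G, Cfsg.IsTwoLocal N → Group.IsSolvable ↥N)
    (hZ : ∀ S : Sylow 2 G, Subgroup.centralizer (Cfsg.omegaCenterOf (S : Subgroup G) : Set G) ≤
      Subgroup.normalizer ((S : Subgroup G) : Set G))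
    (T : Subgroup G) (hT : IsPGroup 2 ↥T) (hT1 : T ≠ ⊥) (L : Subgroup G)
    (hLT : L ∈ Cfsg.jOvergroups T) (K : Subgroup G) (hK : Cfsg.IsJComponent T K) (hKL : K ≤ L) :
    (K.subgroupOf L).IsSubnormal := by
  obtain ⟨O, hOn, hcomm, hdata⟩ := jComponent_data hL hN hZ T hT hT1 L hLT
  obtain ⟨hKO, hCK⟩ := hdata K hK hKL
  have hker : ∀ c : ↥L, psi (ZW 2 ↥L) c = 1 →
      c ∈ Subgroup.centralizer ((ZW 2 ↥L : Subgroup ↥L) : Set ↥L) := by
    intro c hc
    rw [← psi_ker]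
    exact hc
  have hKM : K.subgroupOf L ≤ ((K.subgroupOf L).map (psi (ZW 2 ↥L))).comap (psi (ZW 2 ↥L)) :=
    Subgroup.le_comap_map _ _
  have hMP : ((K.subgroupOf L).map (psi (ZW 2 ↥L))).comap (psi (ZW 2 ↥L)) ≤
      (O.map (psi (ZW 2 ↥L))).comap (psi (ZW 2 ↥L)) :=
    Subgroup.comap_mono (Subgroup.map_mono hKO)
  have hPn : ((O.map (psi (ZW 2 ↥L))).comap (psi (ZW 2 ↥L))).Normal := by
    constructor
    intro p hp g
    obtain ⟨o, ho, hop⟩ := hp
    refine ⟨g * o * g⁻¹, hOn.conj_mem o ho g, ?_⟩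
    rw [map_mul, map_mul, map_mul, map_mul, hop]
  have hN2 : ((((K.subgroupOf L).map (psi (ZW 2 ↥L))).comap (psi (ZW 2 ↥L))).subgroupOf
      ((O.map (psi (ZW 2 ↥L))).comap (psi (ZW 2 ↥L)))).Normal := by
    constructor
    intro n hn g
    rw [Subgroup.mem_subgroupOf] at hn ⊢
    obtain ⟨k, hk, hkn⟩ := hn
    obtain ⟨o, ho, hog⟩ := g.2
    refine ⟨k, hk, ?_⟩
    have h1 := hcomm o ho k (hKO hk)
    show psi (ZW 2 ↥L) k = psi (ZW 2 ↥L) ((g : ↥L) * (n : ↥L) * (g : ↥L)⁻¹)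
    rw [map_mul, map_mul, map_inv, ← hkn, ← hog, h1]
    group
  have hN1 : ((K.subgroupOf L).subgroupOf
      (((K.subgroupOf L).map (psi (ZW 2 ↥L))).comap (psi (ZW 2 ↥L)))).Normal := by
    constructor
    intro n hn g
    rw [Subgroup.mem_subgroupOf] at hn ⊢
    obtain ⟨k₀, hk₀, hk₀g⟩ := g.2
    have hc : psi (ZW 2 ↥L) (k₀⁻¹ * (g : ↥L)) = 1 := by
      rw [map_mul, map_inv, hk₀g, inv_mul_cancel]
    have hcN := hCK _ (hker _ hc)
    have h2 : ((k₀⁻¹ * (g : ↥L) : ↥L) : G) * ((n : ↥L) : G) * ((k₀⁻¹ * (g : ↥L) : ↥L) : G)⁻¹ ∈ K :=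
      (Subgroup.mem_normalizer_iff.mp hcN _).mp (Subgroup.mem_subgroupOf.mp hn)
    have h3 : (k₀ : G) * (((k₀⁻¹ * (g : ↥L) : ↥L) : G) * ((n : ↥L) : G) *
        ((k₀⁻¹ * (g : ↥L) : ↥L) : G)⁻¹) * (k₀ : G)⁻¹ ∈ K :=
      K.mul_mem (K.mul_mem (Subgroup.mem_subgroupOf.mp hk₀) h2)
        (K.inv_mem (Subgroup.mem_subgroupOf.mp hk₀))
    rw [Subgroup.mem_subgroupOf]
    have h4 : (((g : ↥L) * (n : ↥L) * (g : ↥L)⁻¹ : ↥L) : G) = (k₀ : G) *
        (((k₀⁻¹ * (g : ↥L) : ↥L) : G) * ((n : ↥L) : G) *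
        ((k₀⁻¹ * (g : ↥L) : ↥L) : G)⁻¹) * (k₀ : G)⁻¹ := by
      simp only [Subgroup.coe_mul, Subgroup.coe_inv]
      group
    show (((g : ↥L) * (n : ↥L) * (g : ↥L)⁻¹ : ↥L) : G) ∈ K
    rw [h4]
    exact h3
  exact Subgroup.IsSubnormal.step _ _ hKM (Subgroup.IsSubnormal.step _ _ hMP hPn.isSubnormal hN2) hN1

end Cfsg.Agent.Lib.Helper55.JComp
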