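import Mathlib
import Cfsg.Agent.Lib.Helper55.JFFOdd

/-!
Cubes of odd-order elements of `J(X)` act trivially on `ZW` (same setting as `JFFOdd`).
-/

set_option autoImplicit false

namespace Cfsg.Agent.Lib.Helper55.JFF

open scoped commutatorElement
open Cfsg.Agent.Lib.Helper10 Cfsg.Agent.Lib.Helper11 Cfsg.Agent.Lib.Helper11.FFT
  Cfsg.Agent.Lib.Helper11.FF Cfsg.Agent.Lib.Helper11.TFS

variable {X : Type*} [Group X] [Finite X]

/-- the image of `J(X)` in the holomorph of `ZW` is trivial or a direct product of copies of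
`S₃`. -/
theorem exists_equiv (hsol : Cfsg.IsPSolvable 2 X) (hO : Cfsg.pPrimeCore 2 X = ⊥) :
    (Cfsg.thompsonSubgroup 2 X).map (psi (ZW 2 X)) = ⊥ ∨
      ∃ n : ℕ, Nonempty (↥((Cfsg.thompsonSubgroup 2 X).map (psi (ZW 2 X))) ≃*
        (Fin n → Equiv.Perm (Fin 3))) := by
  have : Fact (Nat.Prime 2) := ⟨Nat.prime_two⟩
  have hWe := ZW_elem hsol hO
  have hOp := pCore_range_ZW (p := 2) (G := X)
  have hJc : (Cfsg.thompsonSubgroup 2 X).Characteristic := (Cfsg.Agent.S0602.result (p := 2)).1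
  have hYn : (Cfsg.thompsonSubgroup 2 X).Normal := Subgroup.normal_of_characteristic _
  obtain ⟨Y, hYdef⟩ : ∃ Y : Subgroup X, Y = Cfsg.thompsonSubgroup 2 X := ⟨_, rfl⟩
  have hYn' : Y.Normal := by rw [hYdef]; exact hYn
  rw [← hYdef]
  obtain ⟨hs, hCK⟩ := setup_map_normal (ZW 2 X) hWe hsol hOp Y
  have hS3 : Y.map (psi (ZW 2 X)) = ⨆ A : {A : Subgroup (Hol (ZW 2 X)) //
      A ≤ Y.map (psi (ZW 2 X)) ∧ Cfsg.IsBestOffenderOn 2 (VV (ZW 2 X)) A},
        (A : Subgroup (Hol (ZW 2 X))) := by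
    apply le_antisymm
    · rw [Subgroup.map_le_iff_le_comap]
      have hle : Cfsg.thompsonSubgroup 2 X ≤ (⨆ A : {A : Subgroup (Hol (ZW 2 X)) //
          A ≤ Y.map (psi (ZW 2 X)) ∧ Cfsg.IsBestOffenderOn 2 (VV (ZW 2 X)) A},
            (A : Subgroup (Hol (ZW 2 X)))).comap (psi (ZW 2 X)) := by
        unfold Cfsg.thompsonSubgroup
        apply sSup_le
        intro A hA
        rw [← Subgroup.map_le_iff_le_comap]
        have hAY : A ≤ Y := by rw [hYdef]; exact le_thompsonSubgroup hA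
        exact le_iSup (fun A : {A : Subgroup (Hol (ZW 2 X)) //
            A ≤ Y.map (psi (ZW 2 X)) ∧ Cfsg.IsBestOffenderOn 2 (VV (ZW 2 X)) A} =>
              (A : Subgroup (Hol (ZW 2 X))))
          ⟨A.map (psi (ZW 2 X)), Subgroup.map_mono hAY,
            bestOffender_map (ZW 2 X) (isBestOffenderOn_of_mem_max (ZW 2 X) A hWe hA)⟩
      exact hYdef.le.trans hle
    · exact iSup_le (fun A => A.2.1)
  by_cases hH1 : Y.map (psi (ZW 2 X)) = ⊥
  · exact Or.inl hH1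
  · right
    obtain ⟨-, hstr, hind, hsup, -, -⟩ := structure_thm hs hCK hS3 hH1
      (ι := {E : Subgroup (Hol (ZW 2 X)) // ∃ a, IsTransv 2 (VV (ZW 2 X)) (Y.map (psi (ZW 2 X))) a ∧
        E = EE (FF.coreOf 2 (Y.map (psi (ZW 2 X)))) a})
      (fun E => E.1) Subtype.val_injective (fun i => i.2)
      (fun a ha => ⟨⟨_, a, ha, rfl⟩, rfl⟩)
    have hSL : Nonempty (Matrix.SpecialLinearGroup (Fin 2) (ZMod 2) ≃* Equiv.Perm (Fin 3)) :=
      Cfsg.Agent.S0250.result (F := ZMod 2) (by rw [ZMod.card])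
    obtain ⟨e0⟩ := hSL
    obtain ⟨e⟩ := exists_pi_equiv (fun E : {E : Subgroup (Hol (ZW 2 X)) //
        ∃ a, IsTransv 2 (VV (ZW 2 X)) (Y.map (psi (ZW 2 X))) a ∧
          E = EE (FF.coreOf 2 (Y.map (psi (ZW 2 X)))) a} => E.1) (Y.map (psi (ZW 2 X)))
      (fun i => (hstr i).1) hind hsup (M := Equiv.Perm (Fin 3))
      (fun i => by
        obtain ⟨e1⟩ := (hstr i).2.1
        exact ⟨e1.trans e0⟩)
    exact ⟨_, ⟨e⟩⟩

/-- cubes of odd-order elements of `J(X)` centralize `ZW`. -/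
theorem odd_pow_three (hsol : Cfsg.IsPSolvable 2 X) (hO : Cfsg.pPrimeCore 2 X = ⊥)
    {g : X} (hg : g ∈ Cfsg.thompsonSubgroup 2 X) (hgo : Odd (orderOf g)) :
    psi (ZW 2 X) g ^ 3 = 1 := by
  have hg' : psi (ZW 2 X) g ∈ (Cfsg.thompsonSubgroup 2 X).map (psi (ZW 2 X)) :=
    Subgroup.mem_map_of_mem _ hg
  rcases exists_equiv hsol hO with h | ⟨n, ⟨e⟩⟩
  · rw [h, Subgroup.mem_bot] at hg'
    rw [hg', one_pow]
  · have key : ∀ i, (e ⟨psi (ZW 2 X) g, hg'⟩ i) ^ 3 = 1 := by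
      intro i
      apply perm3_pow_three_of_odd
      have h1 : orderOf (e ⟨psi (ZW 2 X) g, hg'⟩ i) ∣ orderOf g := by
        apply orderOf_dvd_of_pow_eq_one
        have h2 : (⟨psi (ZW 2 X) g, hg'⟩ :
            ↥((Cfsg.thompsonSubgroup 2 X).map (psi (ZW 2 X)))) ^ orderOf g = 1 := by
          apply Subtype.ext
          rw [Subgroup.coe_pow, Subgroup.coe_one]
          show psi (ZW 2 X) g ^ orderOf g = 1
          rw [← map_pow, pow_orderOf_eq_one, map_one]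
        have h3 := congrArg (fun z => e z i) h2
        simp only [map_pow, map_one, Pi.pow_apply, Pi.one_apply] at h3
        exact h3
      exact Odd.of_dvd_nat hgo h1
    have h4 : e (⟨psi (ZW 2 X) g, hg'⟩ ^ 3) = 1 := by
      rw [map_pow]
      funext i
      simp only [Pi.pow_apply, Pi.one_apply]
      exact key i
    have h5 : (⟨psi (ZW 2 X) g, hg'⟩ :
        ↥((Cfsg.thompsonSubgroup 2 X).map (psi (ZW 2 X)))) ^ 3 = 1 := by
      apply e.injective
      rw [h4, map_one]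
    have h6 := congrArg Subtype.val h5
    simpa using h6

end Cfsg.Agent.Lib.Helper55.JFF
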