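import Mathlib
import Cfsg.Agent.Lib.Helper55.JSubn
import Cfsg.Agent.Lib.Helper55.JFFOdd3
import Cfsg.Agent.Lib.Helper55.ModThree

/-!
A Sylow `2`-subgroup `T` of `L ∈ jOvergroups T` normalizes every `J(T)`-component `K ≤ L`
with `Z(T) ∩ W_K ≠ 1` (Kurzweil–Stellmacher, Chapter 12).
-/

set_option autoImplicit false

namespace Cfsg.Agent.Lib.Helper55.JComp

open scoped commutatorElement
open Cfsg.Agent.Lib.Helper11 Cfsg.Agent.Lib.Helper11.FFT

universe u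

/-- `psi a = psi b` iff `a` and `b` induce the same automorphism of `V`. -/
theorem psi_eq_iff {X : Type*} [Group X] (V : Subgroup X) [V.Normal] (a b : X) :
    psi V a = psi V b ↔ ∀ v ∈ V, a * v * a⁻¹ = b * v * b⁻¹ := by
  have h1 : psi V a = psi V b ↔ b⁻¹ * a ∈ (psi V).ker := by
    rw [MonoidHom.mem_ker, map_mul, map_inv]
    constructor
    · intro h; rw [h, inv_mul_cancel]
    · intro h; exact (inv_mul_eq_one.mp h).symm
  rw [h1, psi_ker, Subgroup.mem_centralizer_iff]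
  constructor
  · intro h v hv
    have h2 := h v hv
    calc a * v * a⁻¹ = b * ((b⁻¹ * a) * v) * a⁻¹ := by group
      _ = b * (v * (b⁻¹ * a)) * a⁻¹ := by rw [h2]
      _ = b * v * b⁻¹ := by group
  · intro h v hv
    have h2 := h v hv
    calc v * (b⁻¹ * a) = b⁻¹ * (b * v * b⁻¹) * a := by group
      _ = b⁻¹ * (a * v * a⁻¹) * a := by rw [h2]
      _ = b⁻¹ * a * v := by group

variable {G : Type u} [Group G] [Finite G]

/-- the subgroup generated by the odd-order elements of `J(L)`. -/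
def oddJ (L : Subgroup G) : Subgroup ↥L :=
  Subgroup.closure {g : ↥L | g ∈ Cfsg.thompsonSubgroup 2 ↥L ∧ Odd (orderOf g)}

theorem oddJ_normal (L : Subgroup G) : (oddJ L).Normal := by
  have hJc : (Cfsg.thompsonSubgroup 2 ↥L).Characteristic := (Cfsg.Agent.S0602.result (p := 2)).1
  have hYn : (Cfsg.thompsonSubgroup 2 ↥L).Normal := Subgroup.normal_of_characteristic _
  constructor
  intro n hn g
  have hle : oddJ L ≤ (oddJ L).comap (MulAut.conj g).toMonoidHom := by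
    unfold oddJ
    rw [Subgroup.closure_le]
    rintro x ⟨hx, hxo⟩
    show g * x * g⁻¹ ∈ Subgroup.closure
      {g : ↥L | g ∈ Cfsg.thompsonSubgroup 2 ↥L ∧ Odd (orderOf g)}
    apply Subgroup.subset_closure
    refine ⟨hYn.conj_mem x hx g, ?_⟩
    have h1 : orderOf (g * x * g⁻¹) = orderOf x := by
      have := orderOf_injective (MulAut.conj g).toMonoidHom (MulAut.conj g).injective x
      simpa using this
    rw [h1]; exact hxo
  exact hle hn

theorem oddJ_comm {L : Subgroup G} (hsol : Cfsg.IsPSolvable 2 ↥L)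
    (hO : Cfsg.pPrimeCore 2 ↥L = ⊥) : ∀ x ∈ oddJ L, ∀ y ∈ oddJ L,
      psi (ZW 2 ↥L) x * psi (ZW 2 ↥L) y = psi (ZW 2 ↥L) y * psi (ZW 2 ↥L) x := by
  have step1 : ∀ x : ↥L, x ∈ Cfsg.thompsonSubgroup 2 ↥L → Odd (orderOf x) →
      oddJ L ≤ (Subgroup.centralizer {psi (ZW 2 ↥L) x}).comap (psi (ZW 2 ↥L)) := by
    intro x hx hxo
    unfold oddJ
    rw [Subgroup.closure_le]
    rintro y ⟨hy, hyo⟩
    show psi (ZW 2 ↥L) y ∈ Subgroup.centralizer {psi (ZW 2 ↥L) x}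
    rw [Subgroup.mem_centralizer_iff]
    intro z hz
    rw [Set.mem_singleton_iff] at hz
    subst hz
    exact Cfsg.Agent.Lib.Helper55.JFF.odd_comm hsol hO hx hy hxo hyo
  have step2 : ∀ y ∈ oddJ L,
      oddJ L ≤ (Subgroup.centralizer {psi (ZW 2 ↥L) y}).comap (psi (ZW 2 ↥L)) := by
    intro y hy
    have hle : Subgroup.closure {g : ↥L | g ∈ Cfsg.thompsonSubgroup 2 ↥L ∧ Odd (orderOf g)} ≤
        (Subgroup.centralizer {psi (ZW 2 ↥L) y}).comap (psi (ZW 2 ↥L)) := by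
      rw [Subgroup.closure_le]
      rintro x ⟨hx, hxo⟩
      show psi (ZW 2 ↥L) x ∈ Subgroup.centralizer {psi (ZW 2 ↥L) y}
      rw [Subgroup.mem_centralizer_iff]
      intro z hz
      rw [Set.mem_singleton_iff] at hz
      subst hz
      have h1 : psi (ZW 2 ↥L) y ∈ Subgroup.centralizer {psi (ZW 2 ↥L) x} := step1 x hx hxo hy
      exact (Subgroup.mem_centralizer_iff.mp h1 _ rfl).symm
    exact hle
  intro x hx y hy
  have h1 : psi (ZW 2 ↥L) x ∈ Subgroup.centralizer {psi (ZW 2 ↥L) y} := step2 y hy hx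
  exact (Subgroup.mem_centralizer_iff.mp h1 _ rfl).symm

theorem oddJ_pow_three {L : Subgroup G} (hsol : Cfsg.IsPSolvable 2 ↥L)
    (hO : Cfsg.pPrimeCore 2 ↥L = ⊥) : ∀ x ∈ oddJ L, psi (ZW 2 ↥L) x ^ 3 = 1 := by
  intro x hx
  have hx' : x ∈ Subgroup.closure
      {g : ↥L | g ∈ Cfsg.thompsonSubgroup 2 ↥L ∧ Odd (orderOf g)} := hx
  refine Subgroup.closure_induction (p := fun x _ => psi (ZW 2 ↥L) x ^ 3 = 1) ?_ ?_ ?_ ?_ hx'
  · rintro g ⟨hg, hgo⟩
    exact Cfsg.Agent.Lib.Helper55.JFF.odd_pow_three hsol hO hg hgo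
  · rw [map_one, one_pow]
  · intro a b ha hb iha ihb
    have hc : Commute (psi (ZW 2 ↥L) a) (psi (ZW 2 ↥L) b) := oddJ_comm hsol hO a ha b hb
    rw [map_mul, hc.mul_pow, iha, ihb, one_mul]
  · intro a _ iha
    rw [map_inv, inv_pow, iha, inv_one]

/-- `J(T)`-components of `L` lie in `oddJ L`. -/
theorem le_oddJ {T L K : Subgroup G} (hsyl : Cfsg.IsSylowTwoIn T L)
    (hK : Cfsg.IsJComponent T K) (hKL : K ≤ L) : K.subgroupOf L ≤ oddJ L := by
  have hJY := thompsonSubgroupOf_le_map hsyl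
  have hJc : (Cfsg.thompsonSubgroup 2 ↥L).Characteristic := (Cfsg.Agent.S0602.result (p := 2)).1
  have hYn : (Cfsg.thompsonSubgroup 2 ↥L).Normal := Subgroup.normal_of_characteristic _
  have hKY : K ≤ (Cfsg.thompsonSubgroup 2 ↥L).map L.subtype := by
    have h1 : ⁅K, Cfsg.thompsonSubgroupOf 2 T⁆ ≤ (Cfsg.thompsonSubgroup 2 ↥L).map L.subtype := by
      rw [Subgroup.commutator_le]
      intro k hk j hj
      obtain ⟨j', hj', rfl⟩ := hJY hj
      refine ⟨⟨k, hKL hk⟩ * j' * ⟨k, hKL hk⟩⁻¹ * j'⁻¹, ?_, ?_⟩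
      · exact Subgroup.mul_mem _ (hYn.conj_mem j' hj' _) (Subgroup.inv_mem _ hj')
      · simp [commutatorElement_def]
    rw [hK.2.1] at h1
    exact h1
  have hle : Subgroup.closure {g : G | g ∈ K ∧ Odd (orderOf g)} ≤ (oddJ L).map L.subtype := by
    rw [Subgroup.closure_le]
    rintro g ⟨hgK, hgo⟩
    obtain ⟨y, hy, hyg⟩ := hKY hgK
    refine ⟨y, ?_, hyg⟩
    apply Subgroup.subset_closure
    refine ⟨hy, ?_⟩
    have h1 : orderOf y = orderOf g := by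
      rw [← hyg]
      exact (Subgroup.orderOf_coe y).symm
    rw [h1]; exact hgo
  rw [hK.1] at hle
  intro x hx
  obtain ⟨y, hy, hyx⟩ := hle (Subgroup.mem_subgroupOf.mp hx)
  have hxy : y = x := Subtype.ext hyx
  rw [← hxy]; exact hy

theorem pCoreOf_le_self (K : Subgroup G) : Cfsg.pCoreOf 2 K ≤ K := by
  intro x hx
  have hx' : x ∈ (Cfsg.pCore 2 ↥K).map K.subtype := hx
  obtain ⟨y, -, hy⟩ := hx'
  rw [← hy]; exact y.2

theorem wOf_le (K : Subgroup G) : Cfsg.wOf K ≤ K := by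
  unfold Cfsg.wOf
  rw [Subgroup.commutator_le]
  intro a ha k hk
  have hle : Cfsg.omegaCenterOf (Cfsg.pCoreOf 2 K) ≤ K := by
    unfold Cfsg.omegaCenterOf Cfsg.omegaOne
    rw [Subgroup.closure_le]
    rintro x ⟨hx, -⟩
    exact pCoreOf_le_self K (Subgroup.mem_inf.mp hx).1
  have haK : a ∈ K := hle ha
  rw [commutatorElement_def]
  exact K.mul_mem (K.mul_mem (K.mul_mem haK hk) (K.inv_mem haK)) (K.inv_mem hk)

/-- odd-order elements of `K J` lie in `K` when `K = [K, J]` and `J` is a `2`-group. -/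
theorem odd_mem_of_mem_sup {K J : Subgroup G} (hJ2 : IsPGroup 2 J) (hKJ : ⁅K, J⁆ = K) :
    ∀ h ∈ K ⊔ J, Odd (orderOf h) → h ∈ K := by
  have hJK : ∀ z ∈ J, ∀ w ∈ K, z * w * z⁻¹ ∈ K := by
    intro z hz
    have hle : ⁅K, J⁆ ≤ K.comap (MulAut.conj z).toMonoidHom := by
      rw [Subgroup.commutator_le]
      intro k hk j hj
      show z * ⁅k, j⁆ * z⁻¹ ∈ K
      have h1 : ⁅k, z⁆ ∈ K := by
        rw [← hKJ]; exact Subgroup.commutator_mem_commutator hk hz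
      have h2 : ⁅k, z * j⁆ ∈ K := by
        rw [← hKJ]; exact Subgroup.commutator_mem_commutator hk (J.mul_mem hz hj)
      have h3 : z * ⁅k, j⁆ * z⁻¹ = ⁅k, z⁆⁻¹ * ⁅k, z * j⁆ := by
        simp only [commutatorElement_def]; group
      rw [h3]
      exact K.mul_mem (K.inv_mem h1) h2
    intro w hw
    have : w ∈ ⁅K, J⁆ := by rw [hKJ]; exact hw
    exact hle this
  have hsup : ∀ h ∈ K ⊔ J, ∃ j ∈ J, h * j ∈ K := by
    intro h hh
    rw [sup_eq_iSup] at hh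
    refine Subgroup.iSup_induction (C := fun h => ∃ j ∈ J, h * j ∈ K) _ hh ?_ ?_ ?_
    · intro b x hx
      cases b
      · exact ⟨x⁻¹, J.inv_mem (by simpa using hx), by simp⟩
      · exact ⟨1, J.one_mem, by simpa using hx⟩
    · exact ⟨1, J.one_mem, by simp⟩
    · rintro x y ⟨j₁, hj₁, hx⟩ ⟨j₂, hj₂, hy⟩
      refine ⟨j₂ * j₁, J.mul_mem hj₂ hj₁, ?_⟩
      have h1 : j₁⁻¹ * (y * j₂) * j₁⁻¹⁻¹ ∈ K := hJK _ (J.inv_mem hj₁) _ hy
      have h2 : x * y * (j₂ * j₁) = (x * j₁) * (j₁⁻¹ * (y * j₂) * j₁⁻¹⁻¹) := by group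
      rw [h2]
      exact K.mul_mem hx h1
  intro h hh hodd
  obtain ⟨j, hj, hk⟩ := hsup h hh
  have hpow : ∀ n : ℕ, ∃ j' ∈ J, h ^ n * j' ∈ K ∧ j' = j ^ n := by
    intro n
    induction n with
    | zero => exact ⟨1, J.one_mem, by simp, by simp⟩
    | succ n ih =>
      obtain ⟨j', hj', hmem, rfl⟩ := ih
      refine ⟨j ^ (n + 1), J.pow_mem hj _, ?_, rfl⟩
      have h1 : (j ^ n)⁻¹ * (h * j) * (j ^ n)⁻¹⁻¹ ∈ K :=
        hJK _ (J.inv_mem (J.pow_mem hj n)) _ hk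
      have h2 : h ^ (n + 1) * j ^ (n + 1) =
          (h ^ n * j ^ n) * ((j ^ n)⁻¹ * (h * j) * (j ^ n)⁻¹⁻¹) := by
        rw [pow_succ, pow_succ]; group
      rw [h2]
      exact K.mul_mem hmem h1
  obtain ⟨a, ha⟩ := (IsPGroup.iff_orderOf.mp hJ2) ⟨j, hj⟩
  have hja : j ^ (2 ^ a) = 1 := by
    have h1 : (⟨j, hj⟩ : J) ^ (2 ^ a) = 1 := by rw [← ha]; exact pow_orderOf_eq_one _
    exact congrArg Subtype.val h1
  obtain ⟨j', -, hmem, rfl⟩ := hpow (2 ^ a)
  rw [hja, mul_one] at hmem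
  have hcop : (2 ^ a).Coprime (orderOf h) :=
    Nat.Coprime.pow_left a (Nat.coprime_two_left.mpr hodd)
  obtain ⟨m, hm⟩ := exists_pow_eq_self_of_coprime hcop
  rw [← hm]
  exact K.pow_mem hmem m

end Cfsg.Agent.Lib.Helper55.JComp
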