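import Mathlib
import Cfsg.Agent.Lib.Helper55.JNorm

/-!
A Sylow `2`-subgroup `T` of `L ∈ jOvergroups T` normalizes every `J(T)`-component `K ≤ L`
with `Z(T) ∩ W_K ≠ 1` (Kurzweil–Stellmacher, Chapter 12): main proof.
-/

set_option autoImplicit false
set_option maxHeartbeats 1600000

namespace Cfsg.Agent.Lib.Helper55.JComp

open scoped commutatorElement
open Cfsg.Agent.Lib.Helper11 Cfsg.Agent.Lib.Helper11.FFT

universe u

variable {G : Type u} [Group G] [Finite G]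

/-- the module facts about a `J(T)`-component `K ≤ L`: `O_2(K)` centralizes `V = ZW`, and
`[V, K] ≤ W_K`. -/
theorem comm_mem_wOf (hL : Cfsg.IsCharacteristicTwoType G)
    (hN : ∀ N : Subgroup G, Cfsg.IsTwoLocal N → Group.IsSolvable ↥N)
    (hZ : ∀ S : Sylow 2 G, Subgroup.centralizer (Cfsg.omegaCenterOf (S : Subgroup G) : Set G) ≤
      Subgroup.normalizer ((S : Subgroup G) : Set G))
    (T : Subgroup G) (hT : IsPGroup 2 ↥T) (hT1 : T ≠ ⊥) (L : Subgroup G)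
    (hLT : L ∈ Cfsg.jOvergroups T) (K : Subgroup G) (hK : Cfsg.IsJComponent T K) (hKL : K ≤ L) :
    ∀ v : ↥L, v ∈ ZW 2 ↥L → ∀ k : ↥L, (k : G) ∈ K →
      ((v * (k * v * k⁻¹) : ↥L) : G) ∈ Cfsg.wOf K := by
  have : Fact (Nat.Prime 2) := ⟨Nat.prime_two⟩
  have hsolL := solvable_of_mem hN hT1 hLT
  have hsol : Cfsg.IsPSolvable 2 ↥L := Cfsg.Agent.Lib.Helper79.isPSolvable_of_isSolvable 2 hsolL
  have hO := pPrimeCore_eq_bot hLT.2.2
  have hWe := ZW_elem hsol hO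
  obtain ⟨O, -, -, hdata⟩ := jComponent_data hL hN hZ T hT hT1 L hLT
  have hCK := (hdata K hK hKL).2
  have hKO := le_oddJ hLT.1 hK hKL
  have hcube := oddJ_pow_three (L := L) hsol hO
  have hVn : (ZW 2 ↥L).Normal := inferInstance
  have hVc : ∀ u ∈ ZW 2 ↥L, ∀ v ∈ ZW 2 ↥L, u * v = v * u := by
    intro u hu v hv
    have := hWe.1
    exact setLike_mul_comm hu hv
  have hV2 : ∀ v ∈ ZW 2 ↥L, v * v = 1 := by
    intro v hv
    have h := hWe.2 v hv
    rwa [pow_two] at h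
  have hker : ∀ c : ↥L, psi (ZW 2 ↥L) c = 1 →
      c ∈ Subgroup.centralizer ((ZW 2 ↥L : Subgroup ↥L) : Set ↥L) := by
    intro c hc
    rw [← psi_ker]
    exact hc
  have hVC : ∀ v ∈ ZW 2 ↥L, psi (ZW 2 ↥L) v = 1 := by
    intro v hv
    have h1 : psi (ZW 2 ↥L) v = psi (ZW 2 ↥L) 1 := by
      rw [psi_eq_iff]
      intro u hu
      rw [hVc v hv u hu]; group
    rw [h1, map_one]
  -- `O_2(K)` centralizes `V`
  have hQC : ∀ q : ↥L, (q : G) ∈ Cfsg.pCoreOf 2 K → psi (ZW 2 ↥L) q = 1 := by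
    intro q hq
    have hqK : (q : G) ∈ K := pCoreOf_le_self K hq
    have h3 := hcube q (hKO (Subgroup.mem_subgroupOf.mpr hqK))
    obtain ⟨a, ha⟩ := (pCoreOf_isPGroup K) ⟨(q : G), hq⟩
    have ha' : (q : G) ^ (2 ^ a) = 1 := by
      have h := congrArg Subtype.val ha
      simpa using h
    have hq2 : q ^ (2 ^ a) = 1 := Subtype.ext (by rw [Subgroup.coe_pow]; exact ha')
    have h2 : psi (ZW 2 ↥L) q ^ (2 ^ a) = 1 := by rw [← map_pow, hq2, map_one]
    have hd3 : orderOf (psi (ZW 2 ↥L) q) ∣ 3 := orderOf_dvd_of_pow_eq_one h3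
    have hd2 : orderOf (psi (ZW 2 ↥L) q) ∣ 2 ^ a := orderOf_dvd_of_pow_eq_one h2
    have hcop : Nat.Coprime (2 ^ a) 3 := Nat.Coprime.pow_left a (by decide)
    have h1 : orderOf (psi (ZW 2 ↥L) q) = 1 :=
      (Nat.Coprime.coprime_dvd_left hd2 hcop).eq_one_of_dvd hd3
    exact orderOf_eq_one_iff.mp h1
  -- `V ∩ K ≤ Ω₁(Z(O_2(K)))`
  have hVK : ∀ u : ↥L, u ∈ ZW 2 ↥L → (u : G) ∈ K →
      (u : G) ∈ Cfsg.omegaCenterOf (Cfsg.pCoreOf 2 K) := by
    intro u hu huK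
    unfold Cfsg.omegaCenterOf Cfsg.omegaOne
    apply Subgroup.subset_closure
    refine ⟨Subgroup.mem_inf.mpr ⟨?_, ?_⟩, ?_⟩
    · have hNn : (((ZW 2 ↥L).map L.subtype).subgroupOf K).Normal := by
        constructor
        intro n hn g
        rw [Subgroup.mem_subgroupOf] at hn ⊢
        obtain ⟨v, hv, hvn⟩ := hn
        refine ⟨⟨(g : G), hKL g.2⟩ * v * ⟨(g : G), hKL g.2⟩⁻¹, hVn.conj_mem v hv _, ?_⟩
        simp only [Subgroup.subtype_apply, Subgroup.coe_mul, Subgroup.coe_inv] at hvn ⊢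
        rw [hvn]
      have hNp : IsPGroup 2 ↥(((ZW 2 ↥L).map L.subtype).subgroupOf K) := by
        intro n
        refine ⟨1, ?_⟩
        obtain ⟨v, hv, hvn⟩ := Subgroup.mem_subgroupOf.mp n.2
        apply Subtype.ext
        apply Subtype.ext
        have h := hWe.2 v hv
        have h' : ((v : ↥L) : G) ^ 2 = 1 := by
          have h'' := congrArg Subtype.val h
          simpa using h''
        simp only [Subgroup.subtype_apply] at hvn
        simp only [pow_one, Subgroup.coe_pow, Subgroup.coe_one]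
        rw [← hvn]; exact h'
      have hle := Cfsg.Agent.Lib.Helper63.le_pCore' hNn hNp
      have hmem : (⟨(u : G), huK⟩ : ↥K) ∈ ((ZW 2 ↥L).map L.subtype).subgroupOf K :=
        Subgroup.mem_subgroupOf.mpr ⟨u, hu, rfl⟩
      exact ⟨⟨(u : G), huK⟩, hle hmem, rfl⟩
    · rw [Subgroup.mem_centralizer_iff]
      intro q hq
      have hqK : q ∈ K := pCoreOf_le_self K hq
      have hq1 := hQC ⟨q, hKL hqK⟩ hq
      have hqc := hker _ hq1
      have h := Subgroup.mem_centralizer_iff.mp hqc u hu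
      have h' := congrArg Subtype.val h
      simpa using h'.symm
    · have h := hWe.2 u hu
      have h' := congrArg Subtype.val h
      simpa using h'
  intro v hv k hkK
  have hkO : k ∈ oddJ L := hKO (Subgroup.mem_subgroupOf.mpr hkK)
  have hk3 : ∀ u ∈ ZW 2 ↥L, k * (k * (k * u * k⁻¹) * k⁻¹) * k⁻¹ = u := by
    intro u hu
    have h1 : psi (ZW 2 ↥L) (k * k * k) = psi (ZW 2 ↥L) 1 := by
      rw [map_one, map_mul, map_mul, ← pow_three']
      exact hcube k hkO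
    have h2 := (psi_eq_iff (ZW 2 ↥L) _ _).mp h1 u hu
    have e : k * (k * (k * u * k⁻¹) * k⁻¹) * k⁻¹ = (k * k * k) * u * (k * k * k)⁻¹ := by group
    rw [e, h2]; group
  have hkV : ∀ u ∈ ZW 2 ↥L, k * u * k⁻¹ ∈ ZW 2 ↥L := fun u hu => hVn.conj_mem u hu k
  have hprod := ModThree.prod_eq_one (ZW 2 ↥L) hV2 k hkV hk3 v hv
  obtain ⟨w, hw⟩ : ∃ w : ↥L, w = v * (k * v * k⁻¹) := ⟨_, rfl⟩
  rw [← hw] at hprod ⊢
  have hwV : w ∈ ZW 2 ↥L := by rw [hw]; exact Subgroup.mul_mem _ hv (hkV v hv)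
  have hwK : (w : G) ∈ K := by
    have hvN := hCK v (hker v (hVC v hv))
    have h1 : (v : G) * (k : G) * (v : G)⁻¹ ∈ K :=
      (Subgroup.mem_normalizer_iff.mp hvN _).mp hkK
    have hvinv : v⁻¹ = v := inv_eq_of_mul_eq_one_right (hV2 v hv)
    have e : (w : G) = ((v : G) * (k : G) * (v : G)⁻¹) * (k : G)⁻¹ := by
      have e1 : w = v * k * v⁻¹ * k⁻¹ := by rw [hw, hvinv]; group
      rw [e1]
      simp only [Subgroup.coe_mul, Subgroup.coe_inv]
    rw [e]; exact K.mul_mem h1 (K.inv_mem hkK)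
  have huV : k * w * k⁻¹ ∈ ZW 2 ↥L := hkV w hwV
  have huK : ((k * w * k⁻¹ : ↥L) : G) ∈ K := by
    simp only [Subgroup.coe_mul, Subgroup.coe_inv]
    exact K.mul_mem (K.mul_mem hkK hwK) (K.inv_mem hkK)
  have hu := hVK _ huV huK
  have hcm : ⁅((k * w * k⁻¹ : ↥L) : G), (k : G)⁆ ∈ Cfsg.wOf K :=
    Subgroup.commutator_mem_commutator hu hkK
  have h1 : (k * w * k⁻¹) * (k * (k * w * k⁻¹) * k⁻¹) = w := by
    have hwinv : w⁻¹ = w := inv_eq_of_mul_eq_one_right (hV2 w hwV)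
    have h' : (k * w * k⁻¹) * (k * (k * w * k⁻¹) * k⁻¹) = w⁻¹ := by
      apply eq_inv_of_mul_eq_one_right
      rw [← mul_assoc]; exact hprod
    rw [h', hwinv]
  have h2 : (k * (k * w * k⁻¹) * k⁻¹)⁻¹ = k * (k * w * k⁻¹) * k⁻¹ :=
    inv_eq_of_mul_eq_one_right (hV2 _ (hkV _ huV))
  have h3 : ⁅(k * w * k⁻¹ : ↥L), k⁆ = w := by
    rw [commutatorElement_def]
    have e : (k * w * k⁻¹) * k * (k * w * k⁻¹)⁻¹ * k⁻¹ =
        (k * w * k⁻¹) * (k * (k * w * k⁻¹) * k⁻¹)⁻¹ := by group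
    rw [e, h2, h1]
  have e : ((w : ↥L) : G) = ⁅((k * w * k⁻¹ : ↥L) : G), (k : G)⁆ := by
    have h4 : ((⁅(k * w * k⁻¹ : ↥L), k⁆ : ↥L) : G) = (w : G) := congrArg Subtype.val h3
    rw [← h4, commutatorElement_def, commutatorElement_def]
    simp only [Subgroup.coe_mul, Subgroup.coe_inv]
  rw [e]; exact hcm

/-- **`T` normalizes `K` when `Z(T) ∩ W_K ≠ 1`.** -/
theorem sylow_normalizes (hL : Cfsg.IsCharacteristicTwoType G)
    (hN : ∀ N : Subgroup G, Cfsg.IsTwoLocal N → Group.IsSolvable ↥N)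
    (hZ : ∀ S : Sylow 2 G, Subgroup.centralizer (Cfsg.omegaCenterOf (S : Subgroup G) : Set G) ≤
      Subgroup.normalizer ((S : Subgroup G) : Set G))
    (T : Subgroup G) (hT : IsPGroup 2 ↥T) (hT1 : T ≠ ⊥) (L : Subgroup G)
    (hLT : L ∈ Cfsg.jOvergroups T) (K : Subgroup G) (hK : Cfsg.IsJComponent T K) (hKL : K ≤ L)
    (hZW : T ⊓ Subgroup.centralizer (T : Set G) ⊓ Cfsg.wOf K ≠ ⊥) :
    T ≤ Subgroup.normalizer (K : Set G) := by
  have : Fact (Nat.Prime 2) := ⟨Nat.prime_two⟩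
  have hsolL := solvable_of_mem hN hT1 hLT
  have hsol : Cfsg.IsPSolvable 2 ↥L := Cfsg.Agent.Lib.Helper79.isPSolvable_of_isSolvable 2 hsolL
  have hO := pPrimeCore_eq_bot hLT.2.2
  have hTL := hLT.1.1
  have hWe := ZW_elem hsol hO
  obtain ⟨P, hP⟩ := exists_sylow hLT.1
  obtain ⟨O, -, -, hdata⟩ := jComponent_data hL hN hZ T hT hT1 L hLT
  have hCK := (hdata K hK hKL).2
  have hKO := le_oddJ hLT.1 hK hKL
  have hOn := oddJ_normal L
  have hcomm := oddJ_comm (L := L) hsol hO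
  have hcube := oddJ_pow_three (L := L) hsol hO
  have hcomW := comm_mem_wOf hL hN hZ T hT hT1 L hLT K hK hKL
  have hVn : (ZW 2 ↥L).Normal := inferInstance
  have hVc : ∀ u ∈ ZW 2 ↥L, ∀ v ∈ ZW 2 ↥L, u * v = v * u := by
    intro u hu v hv
    have := hWe.1
    exact setLike_mul_comm hu hv
  have hV2 : ∀ v ∈ ZW 2 ↥L, v * v = 1 := by
    intro v hv
    have h := hWe.2 v hv
    rwa [pow_two] at h
  have hker : ∀ c : ↥L, psi (ZW 2 ↥L) c = 1 →
      c ∈ Subgroup.centralizer ((ZW 2 ↥L : Subgroup ↥L) : Set ↥L) := by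
    intro c hc
    rw [← psi_ker]
    exact hc
  have hact : ∀ a b : ↥L, psi (ZW 2 ↥L) a = psi (ZW 2 ↥L) b →
      ∀ v ∈ ZW 2 ↥L, a * v * a⁻¹ = b * v * b⁻¹ :=
    fun a b h => (psi_eq_iff (ZW 2 ↥L) a b).mp h
  have cube : ∀ a ∈ oddJ L, ∀ v ∈ ZW 2 ↥L, a * (a * (a * v * a⁻¹) * a⁻¹) * a⁻¹ = v := by
    intro a ha v hv
    have h1 : psi (ZW 2 ↥L) (a * a * a) = psi (ZW 2 ↥L) 1 := by
      rw [map_one, map_mul, map_mul, ← pow_three']
      exact hcube a ha
    have h2 := hact _ _ h1 v hv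
    have e : a * (a * (a * v * a⁻¹) * a⁻¹) * a⁻¹ = (a * a * a) * v * (a * a * a)⁻¹ := by group
    rw [e, h2]; group
  -- the element `z`
  obtain ⟨⟨z, hz⟩, hz1'⟩ := Subgroup.ne_bot_iff_exists_ne_one.mp hZW
  have hz1 : z ≠ 1 := fun h => hz1' (Subtype.ext h)
  have hzT : z ∈ T := hz.1.1
  have hzC : z ∈ Subgroup.centralizer (T : Set G) := hz.1.2
  have hzW : z ∈ Cfsg.wOf K := hz.2
  have hWle : Cfsg.wOf K ≤ L := (wOf_le K).trans hKL
  have hWcard : Nat.card ((Cfsg.wOf K).subgroupOf L) ≤ 4 := by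
    rw [Nat.card_congr (Subgroup.subgroupOfEquivOfLe hWle).toEquiv, hK.2.2.2.2.1]
  have stepA : ∀ t ∈ T, ∀ g ∈ K, Odd (orderOf g) → t * g * t⁻¹ ∈
      K ⊔ (Subgroup.centralizer ((ZW 2 ↥L : Subgroup ↥L) : Set ↥L)).map L.subtype := by
    intro t ht g hgK hgo
    obtain ⟨x, hx⟩ : ∃ x : ↥L, x = ⟨g, hKL hgK⟩ := ⟨_, rfl⟩
    obtain ⟨t', ht'⟩ : ∃ t' : ↥L, t' = ⟨t, hTL ht⟩ := ⟨_, rfl⟩
    have hxK : (x : G) ∈ K := by rw [hx]; exact hgK
    have hxO : x ∈ oddJ L := hKO (Subgroup.mem_subgroupOf.mpr hxK)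
    have hyO : t' * x * t'⁻¹ ∈ oddJ L := hOn.conj_mem x hxO t'
    have hcoe : ((t' * x * t'⁻¹ : ↥L) : G) = t * g * t⁻¹ := by rw [hx, ht']; rfl
    rw [← hcoe]
    by_cases hx1 : psi (ZW 2 ↥L) x = 1
    · apply Subgroup.mem_sup_right
      refine ⟨t' * x * t'⁻¹, hker _ ?_, rfl⟩
      rw [map_mul, map_mul, hx1, mul_one, map_inv, mul_inv_cancel]
    · have hxV : ∀ v ∈ ZW 2 ↥L, x * v * x⁻¹ ∈ ZW 2 ↥L := fun v hv => hVn.conj_mem v hv x
      have hyV : ∀ v ∈ ZW 2 ↥L, (t' * x * t'⁻¹) * v * (t' * x * t'⁻¹)⁻¹ ∈ ZW 2 ↥L :=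
        fun v hv => hVn.conj_mem v hv _
      have hxy : ∀ v ∈ ZW 2 ↥L, x * ((t' * x * t'⁻¹) * v * (t' * x * t'⁻¹)⁻¹) * x⁻¹ =
          (t' * x * t'⁻¹) * (x * v * x⁻¹) * (t' * x * t'⁻¹)⁻¹ := by
        intro v hv
        have h1 : psi (ZW 2 ↥L) (x * (t' * x * t'⁻¹)) = psi (ZW 2 ↥L) ((t' * x * t'⁻¹) * x) := by
          rw [map_mul (psi (ZW 2 ↥L)) x (t' * x * t'⁻¹),
            map_mul (psi (ZW 2 ↥L)) (t' * x * t'⁻¹) x]
          exact hcomm x hxO _ hyO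
        have h2 := hact _ _ h1 v hv
        have e1 : x * ((t' * x * t'⁻¹) * v * (t' * x * t'⁻¹)⁻¹) * x⁻¹ =
            (x * (t' * x * t'⁻¹)) * v * (x * (t' * x * t'⁻¹))⁻¹ := by group
        have e2 : (t' * x * t'⁻¹) * (x * v * x⁻¹) * (t' * x * t'⁻¹)⁻¹ =
            ((t' * x * t'⁻¹) * x) * v * ((t' * x * t'⁻¹) * x)⁻¹ := by group
        rw [e1, e2, h2]
      have hW'card : Nat.card (((Cfsg.wOf K).subgroupOf L).map (MulAut.conj t').toMonoidHom) ≤ 4 := by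
        rw [Subgroup.card_map_of_injective (MulAut.conj t').injective]
        exact hWcard
      have hxW : ∀ v ∈ ZW 2 ↥L, v * (x * v * x⁻¹) ∈ (Cfsg.wOf K).subgroupOf L := by
        intro v hv
        exact Subgroup.mem_subgroupOf.mpr (hcomW v hv x hxK)
      have hyW' : ∀ v ∈ ZW 2 ↥L, v * ((t' * x * t'⁻¹) * v * (t' * x * t'⁻¹)⁻¹) ∈
          ((Cfsg.wOf K).subgroupOf L).map (MulAut.conj t').toMonoidHom := by
        intro v hv
        have hv1 : t'⁻¹ * v * t' ∈ ZW 2 ↥L := by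
          have h := hVn.conj_mem v hv t'⁻¹
          simpa using h
        refine ⟨(t'⁻¹ * v * t') * (x * (t'⁻¹ * v * t') * x⁻¹), hxW _ hv1, ?_⟩
        simp only [MulEquiv.coe_toMonoidHom, MulAut.conj_apply]
        group
      have hxnt : ¬ ∀ v ∈ ZW 2 ↥L, x * v * x⁻¹ = v := by
        intro h
        apply hx1
        have h1 : psi (ZW 2 ↥L) x = psi (ZW 2 ↥L) 1 := by
          rw [psi_eq_iff]
          intro v hv
          rw [h v hv]; group
        rw [h1, map_one]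
      have hynt : ¬ ∀ v ∈ ZW 2 ↥L, (t' * x * t'⁻¹) * v * (t' * x * t'⁻¹)⁻¹ = v := by
        intro h
        apply hx1
        have h1 : psi (ZW 2 ↥L) (t' * x * t'⁻¹) = psi (ZW 2 ↥L) 1 := by
          rw [psi_eq_iff]
          intro v hv
          rw [h v hv]; group
        rw [map_one, map_mul, map_mul, map_inv] at h1
        have e : psi (ZW 2 ↥L) x = (psi (ZW 2 ↥L) t')⁻¹ *
            (psi (ZW 2 ↥L) t' * psi (ZW 2 ↥L) x * (psi (ZW 2 ↥L) t')⁻¹) * psi (ZW 2 ↥L) t' := by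
          group
        rw [e, h1]; group
      have hz'W : (⟨z, hTL hzT⟩ : ↥L) ∈ (Cfsg.wOf K).subgroupOf L :=
        Subgroup.mem_subgroupOf.mpr hzW
      have hz'W' : (⟨z, hTL hzT⟩ : ↥L) ∈
          ((Cfsg.wOf K).subgroupOf L).map (MulAut.conj t').toMonoidHom := by
        refine ⟨⟨z, hTL hzT⟩, hz'W, ?_⟩
        simp only [MulEquiv.coe_toMonoidHom, MulAut.conj_apply]
        apply Subtype.ext
        rw [ht']
        show t * z * t⁻¹ = z
        have h := Subgroup.mem_centralizer_iff.mp hzC t ht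
        rw [h]; group
      have hz'1 : (⟨z, hTL hzT⟩ : ↥L) ≠ 1 := by
        intro h
        exact hz1 (congrArg Subtype.val h)
      rcases ModThree.module_lemma (ZW 2 ↥L) _ _ hVc hV2 x (t' * x * t'⁻¹) hxV hyV hxy
        (cube x hxO) (cube _ hyO) hWcard hW'card hxW hyW' hxnt hynt _ hz'W hz'W' hz'1 with h | h
      · have h1 : psi (ZW 2 ↥L) (t' * x * t'⁻¹) = psi (ZW 2 ↥L) x :=
          (psi_eq_iff _ _ _).mpr h
        have h2 : psi (ZW 2 ↥L) (x⁻¹ * (t' * x * t'⁻¹)) = 1 := by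
          rw [map_mul, map_inv, h1, inv_mul_cancel]
        have e : ((t' * x * t'⁻¹ : ↥L) : G) =
            (x : G) * ((x⁻¹ * (t' * x * t'⁻¹) : ↥L) : G) := by
          simp only [Subgroup.coe_mul, Subgroup.coe_inv]; group
        rw [e]
        exact Subgroup.mul_mem _ (Subgroup.mem_sup_left hxK)
          (Subgroup.mem_sup_right ⟨_, hker _ h2, rfl⟩)
      · have h1 : psi (ZW 2 ↥L) (t' * x * t'⁻¹) = psi (ZW 2 ↥L) (x * x) := by
          rw [psi_eq_iff]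
          intro v hv
          rw [h v hv]; group
        have h2 : psi (ZW 2 ↥L) ((x * x)⁻¹ * (t' * x * t'⁻¹)) = 1 := by
          rw [map_mul, map_inv, h1, inv_mul_cancel]
        have e : ((t' * x * t'⁻¹ : ↥L) : G) =
            ((x : G) * (x : G)) * (((x * x)⁻¹ * (t' * x * t'⁻¹) : ↥L) : G) := by
          simp only [Subgroup.coe_mul, Subgroup.coe_inv]; group
        rw [e]
        exact Subgroup.mul_mem _ (Subgroup.mem_sup_left (K.mul_mem hxK hxK))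
          (Subgroup.mem_sup_right ⟨_, hker _ h2, rfl⟩)
  have hCGK : (Subgroup.centralizer ((ZW 2 ↥L : Subgroup ↥L) : Set ↥L)).map L.subtype ≤
      Subgroup.normalizer (K : Set G) := by
    rintro _ ⟨c, hc, rfl⟩
    exact hCK c hc
  have hCT : (Subgroup.centralizer ((ZW 2 ↥L : Subgroup ↥L) : Set ↥L)).map L.subtype ≤
      Subgroup.normalizer (T : Set G) := by
    rintro _ ⟨c, hc, rfl⟩
    exact centralizer_ZW_le_normalizer hZ hLT c hc
  have hCJ := hCT.trans (normalizer_le_normalizer_thompsonSubgroupOf 2 T)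
  have hJ2 : IsPGroup 2 ↥(Cfsg.thompsonSubgroupOf 2 T) := hT.to_le (thompsonSubgroupOf_le 2 T)
  have hNX : K ⊔ (Subgroup.centralizer ((ZW 2 ↥L : Subgroup ↥L) : Set ↥L)).map L.subtype ≤
      Subgroup.normalizer ((K ⊔ Cfsg.thompsonSubgroupOf 2 T : Subgroup G) : Set G) := by
    apply sup_le
    · exact le_sup_left.trans Subgroup.le_normalizer
    · intro c hc
      apply mem_normalizer_of_map_conj_eq
      rw [Subgroup.map_sup, map_conj_eq_of_mem_normalizer (hCGK hc),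
        map_conj_eq_of_mem_normalizer (hCJ hc)]
  have stepB : ∀ t ∈ T, ∀ k ∈ K, t * k * t⁻¹ ∈
      K ⊔ (Subgroup.centralizer ((ZW 2 ↥L : Subgroup ↥L) : Set ↥L)).map L.subtype := by
    intro t ht
    have hle : Subgroup.closure {g : G | g ∈ K ∧ Odd (orderOf g)} ≤
        (K ⊔ (Subgroup.centralizer ((ZW 2 ↥L : Subgroup ↥L) : Set ↥L)).map L.subtype).comap
          (MulAut.conj t).toMonoidHom := by
      rw [Subgroup.closure_le]
      rintro g ⟨hgK, hgo⟩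
      exact stepA t ht g hgK hgo
    rw [hK.1] at hle
    exact fun k hk => hle hk
  have hTJ : T ≤ Subgroup.normalizer (Cfsg.thompsonSubgroupOf 2 T : Set G) :=
    Subgroup.le_normalizer.trans (normalizer_le_normalizer_thompsonSubgroupOf 2 T)
  have stepC : ∀ t ∈ T, ∀ k ∈ K, t * k * t⁻¹ ∈ K ⊔ Cfsg.thompsonSubgroupOf 2 T := by
    intro t ht
    have hle : ⁅K, Cfsg.thompsonSubgroupOf 2 T⁆ ≤
        (K ⊔ Cfsg.thompsonSubgroupOf 2 T).comap (MulAut.conj t).toMonoidHom := by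
      rw [Subgroup.commutator_le]
      intro k hk j hj
      show t * ⁅k, j⁆ * t⁻¹ ∈ K ⊔ Cfsg.thompsonSubgroupOf 2 T
      have ha := hNX (stepB t ht k hk)
      have hj1 : t * j * t⁻¹ ∈ Cfsg.thompsonSubgroupOf 2 T :=
        (Subgroup.mem_normalizer_iff.mp (hTJ ht) j).mp hj
      have h1 : (t * k * t⁻¹) * (t * j * t⁻¹) * (t * k * t⁻¹)⁻¹ ∈
          K ⊔ Cfsg.thompsonSubgroupOf 2 T :=
        (Subgroup.mem_normalizer_iff.mp ha _).mp (Subgroup.mem_sup_right hj1)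
      have e : t * ⁅k, j⁆ * t⁻¹ =
          ((t * k * t⁻¹) * (t * j * t⁻¹) * (t * k * t⁻¹)⁻¹) * (t * j * t⁻¹)⁻¹ := by
        rw [commutatorElement_def]; group
      rw [e]
      exact Subgroup.mul_mem _ h1 (Subgroup.inv_mem _ (Subgroup.mem_sup_right hj1))
    rw [hK.2.1] at hle
    exact fun k hk => hle hk
  have stepD : ∀ t ∈ T, ∀ k ∈ K, t * k * t⁻¹ ∈ K := by
    intro t ht
    have hle : Subgroup.closure {g : G | g ∈ K ∧ Odd (orderOf g)} ≤
        K.comap (MulAut.conj t).toMonoidHom := by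
      rw [Subgroup.closure_le]
      rintro g ⟨hgK, hgo⟩
      show t * g * t⁻¹ ∈ K
      refine odd_mem_of_mem_sup hJ2 hK.2.1 _ (stepC t ht g hgK) ?_
      have h1 : orderOf (t * g * t⁻¹) = orderOf g := by
        have h := orderOf_injective (MulAut.conj t).toMonoidHom (MulAut.conj t).injective g
        simpa using h
      rw [h1]; exact hgo
    rw [hK.1] at hle
    exact fun k hk => hle hk
  intro t ht
  rw [Subgroup.mem_normalizer_iff]
  intro k
  constructor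
  · exact stepD t ht k
  · intro h
    have h1 := stepD t⁻¹ (T.inv_mem ht) _ h
    have e : t⁻¹ * (t * k * t⁻¹) * t⁻¹⁻¹ = k := by group
    rwa [e] at h1

end Cfsg.Agent.Lib.Helper55.JComp
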