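-- Tate's normal p-complement theorem, by an elementary transfer argument (helper55).
-- Key step: a central extension by a p-group that splits over a subgroup of index prime to p
-- splits; applied to the pullback of `P ⧸ [R, P] → P ⧸ R` along `M P → M P ⧸ M`.
import Mathlib
import Cfsg.Prelude.Def_Transfer
import Cfsg.Agent.Lib.Helper55.Coprime2

set_option autoImplicit false

namespace Cfsg.Agent.Lib.Helper55

open scoped IsMulCommutative in
/-- Lifting lemma: let `π : Pt → Qt` be a surjection of a finite `p`-group with central kernel,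
`q : G₂ → Qt` a homomorphism, and `P₂ ≤ G₂` a subgroup of index prime to `p` on which `q` lifts
through `π`. Then `q` lifts through `π` on all of `G₂`. -/
theorem exists_lift_of_central_ker {p : ℕ} [Fact p.Prime] {G₂ Pt Qt : Type*}
    [Group G₂] [Finite G₂] [Group Pt] [Finite Pt] [Group Qt]
    (hPt : IsPGroup p Pt) (P₂ : Subgroup G₂) (hidx : ¬ p ∣ P₂.index)
    (π : Pt →* Qt) (hπ : Function.Surjective π) (hker : π.ker ≤ Subgroup.center Pt)
    (q : G₂ →* Qt) (ν : P₂ →* Pt) (hν : ∀ u : P₂, π (ν u) = q u) :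
    ∃ φ : G₂ →* Pt, ∀ g, π (φ g) = q g := by
  classical
  have hp : p.Prime := Fact.out
  obtain ⟨E, hE⟩ : ∃ E : Subgroup (G₂ × Pt), ∀ e : G₂ × Pt, e ∈ E ↔ q e.1 = π e.2 :=
    ⟨(q.comp (MonoidHom.fst G₂ Pt)).eqLocus (π.comp (MonoidHom.snd G₂ Pt)), fun e => Iff.rfl⟩
  obtain ⟨f, hf⟩ : ∃ f : E →* G₂, ∀ e : E, f e = (e : G₂ × Pt).1 :=
    ⟨(MonoidHom.fst G₂ Pt).comp E.subtype, fun e => rfl⟩
  have hfsurj : Function.Surjective f := by
    intro g
    obtain ⟨x, hx⟩ := hπ (q g)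
    exact ⟨⟨(g, x), (hE _).mpr hx.symm⟩, hf _⟩
  obtain ⟨S, hS⟩ : ∃ S : Subgroup E, S = P₂.comap f := ⟨_, rfl⟩
  have hSmem : ∀ e : E, e ∈ S ↔ (e : G₂ × Pt).1 ∈ P₂ := by
    intro e
    rw [hS, Subgroup.mem_comap, hf]
  have hSidx : S.index = P₂.index := by
    rw [hS]; exact Subgroup.index_comap_of_surjective P₂ hfsurj
  -- the homomorphism ρ
  have hcent : ∀ s : S, ((s : E) : G₂ × Pt).2 *
      (ν ⟨((s : E) : G₂ × Pt).1, (hSmem _).mp s.2⟩)⁻¹ ∈ Subgroup.center Pt := by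
    intro s
    apply hker
    rw [MonoidHom.mem_ker, map_mul, map_inv, hν]
    have h1 : q ((s : E) : G₂ × Pt).1 = π ((s : E) : G₂ × Pt).2 := (hE _).mp (s : E).2
    rw [← h1]
    exact mul_inv_cancel _
  obtain ⟨ρ, hρ⟩ : ∃ ρ : S →* Subgroup.center Pt, ∀ s : S, ((ρ s : Subgroup.center Pt) : Pt) =
      ((s : E) : G₂ × Pt).2 * (ν ⟨((s : E) : G₂ × Pt).1, (hSmem _).mp s.2⟩)⁻¹ := by
    refine ⟨MonoidHom.mk' (fun s => ⟨_, hcent s⟩) ?_, fun s => rfl⟩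
    intro s t
    apply Subtype.ext
    have h2 : (⟨(((s * t : S) : E) : G₂ × Pt).1, (hSmem _).mp (s * t).2⟩ : P₂) =
        ⟨((s : E) : G₂ × Pt).1, (hSmem _).mp s.2⟩ * ⟨((t : E) : G₂ × Pt).1, (hSmem _).mp t.2⟩ :=
      rfl
    have h3 := Subgroup.mem_center_iff.mp (hcent t)
      (ν ⟨((s : E) : G₂ × Pt).1, (hSmem _).mp s.2⟩)⁻¹
    change (((s * t : S) : E) : G₂ × Pt).2 * (ν ⟨(((s * t : S) : E) : G₂ × Pt).1, _⟩)⁻¹ =
      (((s : E) : G₂ × Pt).2 * (ν ⟨((s : E) : G₂ × Pt).1, _⟩)⁻¹) *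
        (((t : E) : G₂ × Pt).2 * (ν ⟨((t : E) : G₂ × Pt).1, _⟩)⁻¹)
    rw [h2, map_mul, mul_inv_rev]
    have h4 : (((s * t : S) : E) : G₂ × Pt).2 = ((s : E) : G₂ × Pt).2 * ((t : E) : G₂ × Pt).2 :=
      rfl
    rw [h4]
    calc ((s : E) : G₂ × Pt).2 * ((t : E) : G₂ × Pt).2 *
          ((ν ⟨((t : E) : G₂ × Pt).1, _⟩)⁻¹ * (ν ⟨((s : E) : G₂ × Pt).1, _⟩)⁻¹)
        = ((s : E) : G₂ × Pt).2 * ((((t : E) : G₂ × Pt).2 *
          (ν ⟨((t : E) : G₂ × Pt).1, (hSmem _).mp t.2⟩)⁻¹) *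
            (ν ⟨((s : E) : G₂ × Pt).1, (hSmem _).mp s.2⟩)⁻¹) := by group
      _ = ((s : E) : G₂ × Pt).2 * ((ν ⟨((s : E) : G₂ × Pt).1, (hSmem _).mp s.2⟩)⁻¹ *
          (((t : E) : G₂ × Pt).2 * (ν ⟨((t : E) : G₂ × Pt).1, (hSmem _).mp t.2⟩)⁻¹)) := by
            rw [h3]
      _ = _ := by group
  obtain ⟨τ, hτ⟩ : ∃ τ : E →* ρ.range, τ = MonoidHom.transfer ρ.rangeRestrict :=
    ⟨MonoidHom.transfer ρ.rangeRestrict, rfl⟩
  -- value of τ on central elements (1, z)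
  have hmemZ : ∀ z : Pt, π z = 1 → ((1 : G₂), z) ∈ E := by
    intro z hz
    rw [hE]; simp [hz]
  have htau : ∀ (z : Pt) (hz : π z = 1),
      (((τ ⟨((1 : G₂), z), hmemZ z hz⟩ : ρ.range) : Subgroup.center Pt) : Pt) = z ^ S.index := by
    intro z hz
    have hzc : z ∈ Subgroup.center Pt := hker hz
    have hkey : ∀ (k : ℕ) (g₀ : E),
        g₀⁻¹ * (⟨((1 : G₂), z), hmemZ z hz⟩ : E) ^ k * g₀ ∈ S →
        g₀⁻¹ * (⟨((1 : G₂), z), hmemZ z hz⟩ : E) ^ k * g₀ =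
          (⟨((1 : G₂), z), hmemZ z hz⟩ : E) ^ k := by
      intro k g₀ _
      have hcomm : (⟨((1 : G₂), z), hmemZ z hz⟩ : E) ^ k * g₀ =
          g₀ * (⟨((1 : G₂), z), hmemZ z hz⟩ : E) ^ k := by
        apply Subtype.ext
        apply Prod.ext
        · simp
        · have h5 := Subgroup.mem_center_iff.mp ((Subgroup.center Pt).pow_mem hzc k)
            ((g₀ : G₂ × Pt).2)
          simpa using h5.symm
      rw [mul_assoc, hcomm, inv_mul_cancel_left]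
    rw [hτ, MonoidHom.transfer_eq_pow ρ.rangeRestrict _ hkey]
    rw [MonoidHom.coe_rangeRestrict, hρ]
    simp
    exact map_one ν
  have hcop : ∀ z : Pt, (S.index).Coprime (orderOf z) := by
    intro z
    obtain ⟨k, hk⟩ := hPt z
    have h6 : orderOf z ∣ p ^ k := orderOf_dvd_of_pow_eq_one hk
    have h7 : (S.index).Coprime (p ^ k) := by
      apply Nat.Coprime.pow_right
      rw [hSidx]
      exact ((Nat.Prime.coprime_iff_not_dvd hp).mpr hidx).symm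
    exact Nat.Coprime.coprime_dvd_right h6 h7
  -- existence
  have key1 : ∀ g : G₂, ∃ e : E, (e : G₂ × Pt).1 = g ∧ τ e = 1 := by
    intro g
    obtain ⟨e₀, he₀⟩ := hfsurj g
    rw [hf] at he₀
    obtain ⟨s, hs⟩ := (τ e₀).2
    obtain ⟨z₁, hz₁⟩ : ∃ z₁ : Pt, z₁ = (((τ e₀ : ρ.range) : Subgroup.center Pt) : Pt) := ⟨_, rfl⟩
    have hz₁π : π z₁ = 1 := by
      rw [hz₁, ← hs, hρ, map_mul, map_inv, hν]
      have h1 : q ((s : E) : G₂ × Pt).1 = π ((s : E) : G₂ × Pt).2 := (hE _).mp (s : E).2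
      rw [← h1]
      exact mul_inv_cancel _
    obtain ⟨m, hm⟩ := exists_pow_eq_self_of_coprime (hcop z₁)
    have hwπ : π ((z₁⁻¹) ^ m) = 1 := by
      rw [map_pow, map_inv, hz₁π]; simp
    refine ⟨e₀ * ⟨((1 : G₂), (z₁⁻¹) ^ m), hmemZ _ hwπ⟩, ?_, ?_⟩
    · change (e₀ : G₂ × Pt).1 * 1 = g
      rw [mul_one, he₀]
    · rw [map_mul]
      apply Subtype.ext
      apply Subtype.ext
      have h8 := htau _ hwπ
      change (((τ e₀ : ρ.range) : Subgroup.center Pt) : Pt) *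
        (((τ ⟨((1 : G₂), (z₁⁻¹) ^ m), hmemZ _ hwπ⟩ : ρ.range) : Subgroup.center Pt) : Pt) = 1
      rw [h8, ← hz₁, ← pow_mul, inv_pow, mul_comm m, pow_mul, hm, mul_inv_cancel]
  -- uniqueness
  have key2 : ∀ e e' : E, (e : G₂ × Pt).1 = (e' : G₂ × Pt).1 → τ e = 1 → τ e' = 1 → e = e' := by
    intro e e' h1 h2 h3
    have h4 : (((e⁻¹ * e' : E) : G₂ × Pt)).1 = 1 := by
      change ((e : G₂ × Pt).1)⁻¹ * (e' : G₂ × Pt).1 = 1
      rw [h1, inv_mul_cancel]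
    have h5 : π (((e⁻¹ * e' : E) : G₂ × Pt)).2 = 1 := by
      have := (hE _).mp (e⁻¹ * e' : E).2
      rw [h4, map_one] at this
      exact this.symm
    have h6 : (e⁻¹ * e' : E) = ⟨((1 : G₂), (((e⁻¹ * e' : E) : G₂ × Pt)).2), hmemZ _ h5⟩ := by
      apply Subtype.ext
      apply Prod.ext
      · exact h4
      · rfl
    have h7 : τ (e⁻¹ * e') = 1 := by rw [map_mul, map_inv, h2, h3]; simp
    have h8 := htau _ h5
    rw [← h6, h7] at h8
    have h9 : (((e⁻¹ * e' : E) : G₂ × Pt)).2 ^ S.index = 1 := h8.symm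
    have h10 : orderOf (((e⁻¹ * e' : E) : G₂ × Pt)).2 = 1 :=
      Nat.Coprime.eq_one_of_dvd (hcop _).symm (orderOf_dvd_of_pow_eq_one h9)
    have h11 : (((e⁻¹ * e' : E) : G₂ × Pt)).2 = 1 := orderOf_eq_one_iff.mp h10
    have h12 : (e⁻¹ * e' : E) = 1 := by
      apply Subtype.ext
      apply Prod.ext
      · exact h4
      · exact h11
    exact inv_mul_eq_one.mp h12
  choose e he1 he2 using key1
  have hmul : ∀ a b : G₂, e (a * b) = e a * e b := by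
    intro a b
    apply key2
    · change (e (a * b) : G₂ × Pt).1 = (e a : G₂ × Pt).1 * (e b : G₂ × Pt).1
      rw [he1, he1, he1]
    · exact he2 _
    · rw [map_mul, he2, he2, mul_one]
  refine ⟨MonoidHom.mk' (fun g => (e g : G₂ × Pt).2) ?_, ?_⟩
  · intro a b
    rw [hmul]
    rfl
  · intro g
    have h1 : q (e g : G₂ × Pt).1 = π (e g : G₂ × Pt).2 := (hE _).mp (e g).2
    rw [he1] at h1
    exact h1.symm

/-- Main step of Tate's theorem: if `M ⊴ G` lies in the normal subgroup `N₀`, with `N₀ / M` a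
`p`-group, `N₀ ∩ P ≤ Φ(P)` and `p` divides `|M|` (in the form `P ∩ M ≠ 1`), then there is a
strictly smaller `M₁ ⊴ N₀` with `N₀ / M₁` a `p`-group. -/
theorem exists_smaller_pQuotient_kernel {G : Type*} [Group G] [Finite G] {p : ℕ} [Fact p.Prime]
    (P : Sylow p G) (N₀ M : Subgroup G) [N₀.Normal] [M.Normal]
    (hpow : ∀ x ∈ N₀, ∃ k : ℕ, x ^ p ^ k ∈ M)
    (hfr : N₀ ⊓ (P : Subgroup G) ≤ (frattini P).map (P : Subgroup G).subtype)
    (hMN : M ≤ N₀) (hR : (P : Subgroup G) ⊓ M ≠ ⊥) :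
    ∃ M₁ : Subgroup G, M₁ ≤ M ∧ M₁ ≠ M ∧ (∀ n ∈ N₀, ∀ m ∈ M₁, n * m * n⁻¹ ∈ M₁) ∧
      (∀ x ∈ N₀, ∃ k : ℕ, x ^ p ^ k ∈ M₁) := by
  classical
  have hp : p.Prime := Fact.out
  -- R = P ∩ M and R₁ = [R, P], inside the group P
  obtain ⟨R, hRdef⟩ : ∃ R : Subgroup (P : Subgroup G), R = M.subgroupOf P := ⟨_, rfl⟩
  have hRn : R.Normal := by rw [hRdef]; infer_instance
  have hRmem : ∀ u : (P : Subgroup G), u ∈ R ↔ (u : G) ∈ M := by
    intro u; rw [hRdef, Subgroup.mem_subgroupOf]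
  have hRne : R ≠ ⊥ := by
    intro h
    apply hR
    rw [eq_bot_iff]
    rintro x ⟨hxP, hxM⟩
    have h1 : (⟨x, hxP⟩ : (P : Subgroup G)) ∈ R := (hRmem _).mpr hxM
    rw [h, Subgroup.mem_bot] at h1
    rw [Subgroup.mem_bot]
    exact congrArg Subtype.val h1
  obtain ⟨R₁, hR₁def⟩ : ∃ R₁ : Subgroup (P : Subgroup G),
      R₁ = ⁅R, (⊤ : Subgroup (P : Subgroup G))⁆ := ⟨_, rfl⟩
  have hR₁n : R₁.Normal := by rw [hR₁def]; infer_instance
  have hR₁le : R₁ ≤ R := by rw [hR₁def]; exact Subgroup.commutator_le_left R ⊤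
  have hR₁ne : R₁ ≠ R := by
    intro h
    have hnil : Group.IsNilpotent (P : Subgroup G) := P.2.isNilpotent
    obtain ⟨n, hn⟩ := Subgroup.nilpotent_iff_lowerCentralSeries.mp hnil
    have key : ∀ k, R ≤ (⊤ : Subgroup (P : Subgroup G)).lowerCentralSeries k := by
      intro k
      induction k with
      | zero => exact le_top
      | succ k ih =>
        rw [Subgroup.lowerCentralSeries_succ]
        calc R = ⁅R, (⊤ : Subgroup (P : Subgroup G))⁆ := by rw [← hR₁def, h]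
          _ ≤ _ := Subgroup.commutator_mono ih le_rfl
    exact hRne (le_bot_iff.mp (hn ▸ key n))
  -- the group G₂ = M P
  obtain ⟨G₂, hG₂⟩ : ∃ G₂ : Subgroup G, G₂ = M ⊔ (P : Subgroup G) := ⟨_, rfl⟩
  have hPG₂ : (P : Subgroup G) ≤ G₂ := hG₂ ▸ le_sup_right
  have hMG₂ : M ≤ G₂ := hG₂ ▸ le_sup_left
  have hG₂mem : ∀ g ∈ G₂, ∃ m ∈ M, ∃ u ∈ (P : Subgroup G), m * u = g := by
    intro g hg
    rw [hG₂, ← SetLike.mem_coe, Subgroup.normal_mul] at hg
    exact Set.mem_mul.mp hg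
  have hNG₂ : N₀ ≤ G₂ := by
    intro x hx
    have hsurj : Function.Surjective (QuotientGroup.mk' M) := QuotientGroup.mk'_surjective M
    have hNn : (N₀.map (QuotientGroup.mk' M)).Normal :=
      Subgroup.Normal.map inferInstance _ hsurj
    have hNp : IsPGroup p (N₀.map (QuotientGroup.mk' M)) := by
      rintro ⟨_, ⟨y, hy, rfl⟩⟩
      obtain ⟨k, hk⟩ := hpow y hy
      refine ⟨k, ?_⟩
      apply Subtype.ext
      change (QuotientGroup.mk' M y) ^ p ^ k = 1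
      rw [← map_pow]
      exact (QuotientGroup.eq_one_iff _).mpr hk
    have h1 := hNp.le_sylow_of_normal (P.mapSurjective hsurj) (Subgroup.mem_map_of_mem _ hx)
    rw [Sylow.coe_mapSurjective] at h1
    obtain ⟨u, hu, hux⟩ := h1
    have h2 : u⁻¹ * x ∈ M := QuotientGroup.eq.mp hux
    have h3 : x = u * (u⁻¹ * x) := by group
    rw [hG₂, h3]
    exact Subgroup.mul_mem _ (Subgroup.mem_sup_right hu) (Subgroup.mem_sup_left h2)
  -- the maps
  obtain ⟨M₂, hM₂⟩ : ∃ M₂ : Subgroup G₂, M₂ = M.subgroupOf G₂ := ⟨_, rfl⟩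
  have hM₂n : M₂.Normal := by rw [hM₂]; infer_instance
  have hM₂mem : ∀ g : G₂, g ∈ M₂ ↔ (g : G) ∈ M := by
    intro g; rw [hM₂, Subgroup.mem_subgroupOf]
  obtain ⟨q, hq⟩ : ∃ q : G₂ →* G₂ ⧸ M₂, q = QuotientGroup.mk' M₂ := ⟨_, rfl⟩
  have hq1 : ∀ g : G₂, q g = 1 ↔ (g : G) ∈ M := by
    intro g
    rw [hq, QuotientGroup.mk'_apply, QuotientGroup.eq_one_iff, hM₂mem]
  obtain ⟨ι, hι⟩ : ∃ ι : (P : Subgroup G) →* G₂, ∀ u, ((ι u : G₂) : G) = (u : G) :=
    ⟨Subgroup.inclusion hPG₂, fun u => rfl⟩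
  have hR₁ker : R₁ ≤ (q.comp ι).ker := by
    intro u hu
    rw [MonoidHom.mem_ker, MonoidHom.comp_apply, hq1, hι]
    exact (hRmem u).mp (hR₁le hu)
  obtain ⟨π, hπ⟩ : ∃ π : (P : Subgroup G) ⧸ R₁ →* G₂ ⧸ M₂,
      ∀ u, π (QuotientGroup.mk' R₁ u) = q (ι u) :=
    ⟨QuotientGroup.lift R₁ (q.comp ι) hR₁ker, fun u => rfl⟩
  have hπsurj : Function.Surjective π := by
    intro x
    obtain ⟨g, rfl⟩ : ∃ g : G₂, q g = x := by
      rw [hq]; exact QuotientGroup.mk'_surjective M₂ x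
    obtain ⟨m, hm, u, hu, hmu⟩ := hG₂mem g g.2
    refine ⟨QuotientGroup.mk' R₁ ⟨u, hu⟩, ?_⟩
    rw [hπ]
    have h1 : g = ⟨m, hMG₂ hm⟩ * ι ⟨u, hu⟩ := by
      apply Subtype.ext
      rw [Subgroup.coe_mul, hι]
      exact hmu.symm
    rw [h1, map_mul]
    have h2 : q ⟨m, hMG₂ hm⟩ = 1 := (hq1 _).mpr hm
    rw [h2, one_mul]
  have hkerR : ∀ x : (P : Subgroup G) ⧸ R₁, π x = 1 → ∃ r ∈ R, QuotientGroup.mk' R₁ r = x := by
    intro x hx
    obtain ⟨u, rfl⟩ := QuotientGroup.mk'_surjective R₁ x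
    refine ⟨u, ?_, rfl⟩
    rw [hπ, hq1, hι] at hx
    exact (hRmem u).mpr hx
  have hker : π.ker ≤ Subgroup.center ((P : Subgroup G) ⧸ R₁) := by
    intro x hx
    obtain ⟨r, hr, rfl⟩ := hkerR x hx
    rw [Subgroup.mem_center_iff]
    intro y
    obtain ⟨v, rfl⟩ := QuotientGroup.mk'_surjective R₁ y
    rw [← map_mul, ← map_mul, QuotientGroup.mk'_apply, QuotientGroup.mk'_apply, QuotientGroup.eq]
    have h1 := Subgroup.commutator_mem_commutator (R.inv_mem hr) (Subgroup.mem_top v⁻¹)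
    rw [commutatorElement_def, ← hR₁def] at h1
    have h2 : (v * r)⁻¹ * (r * v) = r⁻¹ * v⁻¹ * r⁻¹⁻¹ * v⁻¹⁻¹ := by group
    rw [h2]
    exact h1
  have hidx : ¬ p ∣ ((P : Subgroup G).subgroupOf G₂).index := by
    intro hdvd
    have h1 : ((P : Subgroup G).subgroupOf G₂).index = (P : Subgroup G).relIndex G₂ := rfl
    rw [h1] at hdvd
    exact P.not_dvd_index (hdvd.trans (Subgroup.relIndex_dvd_index_of_le hPG₂))
  obtain ⟨ν, hν⟩ : ∃ ν : ((P : Subgroup G).subgroupOf G₂) →* (P : Subgroup G) ⧸ R₁,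
      ∀ u : ((P : Subgroup G).subgroupOf G₂), π (ν u) = q u := by
    refine ⟨(QuotientGroup.mk' R₁).comp (Subgroup.subgroupOfEquivOfLe hPG₂).toMonoidHom, ?_⟩
    intro u
    rw [MonoidHom.comp_apply, hπ]
    congr 1
    apply Subtype.ext
    rw [hι]
    rfl
  have hPt : IsPGroup p ((P : Subgroup G) ⧸ R₁) := P.2.to_quotient R₁
  obtain ⟨φ, hφ⟩ := exists_lift_of_central_ker hPt _ hidx π hπsurj hker q ν hν
  -- φ is surjective, by the Frattini hypothesis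
  have hRfr : R ≤ frattini (P : Subgroup G) := by
    intro r hr
    have h1 : (r : G) ∈ N₀ ⊓ (P : Subgroup G) := ⟨hMN ((hRmem r).mp hr), r.2⟩
    obtain ⟨v, hv, hvr⟩ := hfr h1
    have h2 : v = r := Subtype.ext hvr
    rw [← h2]; exact hv
  have hφsurj : Function.Surjective φ := by
    obtain ⟨X, hX⟩ : ∃ X : Subgroup (P : Subgroup G),
        X = φ.range.comap (QuotientGroup.mk' R₁) := ⟨_, rfl⟩
    have hXtop : X = ⊤ := by
      rcases eq_top_or_exists_le_coatom X with h | ⟨C, hC, hXC⟩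
      · exact h
      · exfalso
        apply hC.1
        rw [eq_top_iff]
        intro u _
        have h1 : π (QuotientGroup.mk' R₁ u * (φ (ι u))⁻¹) = 1 := by
          rw [map_mul, map_inv, hφ, hπ, mul_inv_cancel]
        obtain ⟨r, hr, hrx⟩ := hkerR _ h1
        have hrC : r ∈ C := frattini_le_coatom hC (hRfr hr)
        have h2 : r⁻¹ * u ∈ X := by
          rw [hX, Subgroup.mem_comap]
          refine ⟨ι u, ?_⟩
          rw [map_mul, map_inv, hrx]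
          group
        have h3 := C.mul_mem hrC (hXC h2)
        rwa [mul_inv_cancel_left] at h3
    intro x
    obtain ⟨u, rfl⟩ := QuotientGroup.mk'_surjective R₁ x
    have h1 : u ∈ X := hXtop ▸ Subgroup.mem_top u
    rw [hX, Subgroup.mem_comap] at h1
    exact h1
  -- the new subgroup
  refine ⟨φ.ker.map G₂.subtype, ?_, ?_, ?_, ?_⟩
  · rintro _ ⟨g, hg, rfl⟩
    have h1 : q g = 1 := by rw [← hφ, MonoidHom.mem_ker.mp hg, map_one]
    exact (hq1 g).mp h1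
  · intro heq
    obtain ⟨r, hrR, hrR₁⟩ := SetLike.exists_of_lt (lt_of_le_of_ne hR₁le hR₁ne)
    obtain ⟨g, hg⟩ := hφsurj (QuotientGroup.mk' R₁ r)
    have h1 : q g = 1 := by
      rw [← hφ, hg, hπ, hq1, hι]
      exact (hRmem r).mp hrR
    have h2 : (g : G) ∈ M := (hq1 g).mp h1
    rw [← heq] at h2
    obtain ⟨g', hg', hgg'⟩ := h2
    have h3 : g' = g := Subtype.ext hgg'
    have h4 : φ g' = 1 := MonoidHom.mem_ker.mp hg'
    rw [h3, hg] at h4
    exact hrR₁ ((QuotientGroup.eq_one_iff r).mp h4)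
  · rintro n hn _ ⟨g, hg, rfl⟩
    refine ⟨⟨n, hNG₂ hn⟩ * g * ⟨n, hNG₂ hn⟩⁻¹, ?_, rfl⟩
    exact (MonoidHom.normal_ker φ).conj_mem g hg _
  · intro x hx
    obtain ⟨k, hk⟩ := hPt (φ ⟨x, hNG₂ hx⟩)
    refine ⟨k, ⟨⟨x, hNG₂ hx⟩ ^ p ^ k, ?_, rfl⟩⟩
    exact MonoidHom.mem_ker.mpr (by rw [map_pow, hk])

/-- **Tate's theorem**: if the normal subgroup `N` meets the Sylow `p`-subgroup `P` inside the
Frattini subgroup of `P`, then `N` has a normal `p`-complement. -/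
theorem tate_normal_pComplement {G : Type*} [Group G] [Finite G] {p : ℕ} [Fact p.Prime]
    (P : Sylow p G) (N : Subgroup G) [hNn : N.Normal]
    (h : N ⊓ (P : Subgroup G) ≤ (frattini P).map (P : Subgroup G).subtype) :
    Cfsg.HasNormalPComplement p N := by
  classical
  have hp : p.Prime := Fact.out
  obtain ⟨𝒮, h𝒮⟩ : ∃ 𝒮 : Set (Subgroup G), 𝒮 = {M | M ≤ N ∧
      (∀ n ∈ N, ∀ m ∈ M, n * m * n⁻¹ ∈ M) ∧ (∀ x ∈ N, ∃ k : ℕ, x ^ p ^ k ∈ M)} := ⟨_, rfl⟩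
  have hmem𝒮 : ∀ M, M ∈ 𝒮 ↔ (M ≤ N ∧ (∀ n ∈ N, ∀ m ∈ M, n * m * n⁻¹ ∈ M) ∧
      (∀ x ∈ N, ∃ k : ℕ, x ^ p ^ k ∈ M)) := by
    intro M; rw [h𝒮]; rfl
  have hN𝒮 : N ∈ 𝒮 := (hmem𝒮 N).mpr
    ⟨le_rfl, fun n hn m hm => N.mul_mem (N.mul_mem hn hm) (N.inv_mem hn),
      fun x hx => ⟨0, by simpa using hx⟩⟩
  obtain ⟨M, hM, hmin⟩ :=
    WellFounded.has_min (measure (fun M : Subgroup G => Nat.card M)).wf 𝒮 ⟨N, hN𝒮⟩
  have hmin' : ∀ M' ∈ 𝒮, M' ≤ M → M' = M := by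
    intro M' hM' hle
    have h1 : ¬ (Nat.card M' < Nat.card M) := hmin M' hM'
    exact Subgroup.eq_of_le_of_card_ge hle (not_lt.mp h1)
  obtain ⟨hMN, hMnorm, hMpow⟩ := (hmem𝒮 M).mp hM
  have hMG : M.Normal := by
    constructor
    intro m hm g
    obtain ⟨M', hM'⟩ : ∃ M' : Subgroup G, M' = M.comap (MulAut.conj g).toMonoidHom := ⟨_, rfl⟩
    have hM'mem : ∀ x, x ∈ M' ↔ g * x * g⁻¹ ∈ M := by
      intro x
      rw [hM', Subgroup.mem_comap]
      rfl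
    have hinf : M ⊓ M' ∈ 𝒮 := by
      rw [hmem𝒮]
      refine ⟨inf_le_left.trans hMN, ?_, ?_⟩
      · intro n hn m' hm'
        refine ⟨hMnorm n hn m' hm'.1, (hM'mem _).mpr ?_⟩
        have h1 : g * n * g⁻¹ ∈ N := hNn.conj_mem n hn g
        have h2 := hMnorm _ h1 _ ((hM'mem m').mp hm'.2)
        have h3 : g * (n * m' * n⁻¹) * g⁻¹ =
            (g * n * g⁻¹) * (g * m' * g⁻¹) * (g * n * g⁻¹)⁻¹ := by group
        rw [h3]; exact h2
      · intro x hx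
        obtain ⟨k, hk⟩ := hMpow x hx
        obtain ⟨l, hl⟩ := hMpow (g * x * g⁻¹) (hNn.conj_mem x hx g)
        refine ⟨k + l, ?_, (hM'mem _).mpr ?_⟩
        · rw [pow_add, pow_mul]; exact M.pow_mem hk _
        · rw [pow_add, mul_comm, pow_mul]
          have h4 : g * (x ^ p ^ l) ^ p ^ k * g⁻¹ = ((g * x * g⁻¹) ^ p ^ l) ^ p ^ k := by
            rw [conj_pow, conj_pow]
          rw [h4]; exact M.pow_mem hl _
    have h5 := hmin' _ hinf inf_le_left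
    have h6 : m ∈ M ⊓ M' := by rw [h5]; exact hm
    exact (hM'mem m).mp h6.2
  by_cases hR : (P : Subgroup G) ⊓ M = ⊥
  · have hcopM : ¬ p ∣ Nat.card M := by
      intro hdvd
      obtain ⟨x, hx⟩ := exists_prime_orderOf_dvd_card' p hdvd
      have hxG : orderOf (x : G) = p := by rw [Subgroup.orderOf_coe]; exact hx
      have hH : IsPGroup p (Subgroup.zpowers (x : G)) := by
        apply IsPGroup.of_card (n := 1)
        rw [Nat.card_zpowers, hxG, pow_one]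
      obtain ⟨Q, hQ⟩ := hH.exists_le_sylow
      obtain ⟨g, hg⟩ := MulAction.exists_smul_eq G P Q
      have hxQ : (x : G) ∈ (Q : Subgroup G) := hQ (Subgroup.mem_zpowers _)
      rw [← hg, Sylow.coe_subgroup_smul] at hxQ
      obtain ⟨s, hs, hsx⟩ := hxQ
      have hsx' : g * s * g⁻¹ = (x : G) := hsx
      have hsM : s ∈ M := by
        have h1 := hMG.conj_mem (x : G) x.2 g⁻¹
        rw [← hsx'] at h1
        have h2 : g⁻¹ * (g * s * g⁻¹) * g⁻¹⁻¹ = s := by group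
        rwa [h2] at h1
      have hs1 : s = 1 := by
        have h1 : s ∈ (P : Subgroup G) ⊓ M := ⟨hs, hsM⟩
        rw [hR] at h1
        exact Subgroup.mem_bot.mp h1
      rw [hs1] at hsx'
      have hx1 : (x : G) = 1 := by rw [← hsx']; group
      rw [hx1, orderOf_one] at hxG
      exact hp.one_lt.ne hxG
    obtain ⟨K, hK⟩ : ∃ K : Subgroup N, K = M.subgroupOf N := ⟨_, rfl⟩
    have hKn : K.Normal := by rw [hK]; infer_instance
    have hKcard : Nat.card K = Nat.card M := by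
      rw [hK]; exact Nat.card_congr (Subgroup.subgroupOfEquivOfLe hMN).toEquiv
    have hcop : (Nat.card K).Coprime p := by
      rw [hKcard]; exact ((Nat.Prime.coprime_iff_not_dvd hp).mpr hcopM).symm
    have hQ : IsPGroup p (N ⧸ K) := by
      intro x
      obtain ⟨y, rfl⟩ := QuotientGroup.mk_surjective x
      obtain ⟨k, hk⟩ := hMpow y y.2
      refine ⟨k, ?_⟩
      rw [← QuotientGroup.mk_pow, QuotientGroup.eq_one_iff, hK, Subgroup.mem_subgroupOf]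
      simpa using hk
    exact hasNormalPComplement_of_normal_coprime p K hcop hQ
  · exfalso
    obtain ⟨M₁, h1, h2, h3, h4⟩ := exists_smaller_pQuotient_kernel P N M hMpow h hMN hR
    exact h2 (hmin' M₁ ((hmem𝒮 M₁).mpr ⟨h1.trans hMN, h3, h4⟩) h1)

end Cfsg.Agent.Lib.Helper55
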